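import Cfsg.Agent.Lib.RankOne.FixedLine.Lines
import Cfsg.Agent.Lib.RankOne.UnitarySylow
import Cfsg.Agent.Lib.RankOne.SuzukiTwoTypeA
import Cfsg.Agent.Lib.LocalEvenB.FourFixedModels
import Mathlib.RingTheory.AdjoinRoot
import Mathlib.FieldTheory.Finite.GaloisField

/-!
# Recognising the Sylow 2-subgroups of `L₃(q)` and `U₃(q)`
-/

set_option autoImplicit false
set_option linter.style.haveILetI false
set_option linter.unusedSectionVars false

namespace CfsgLib.RankOne.FixedLine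

open Matrix

/-- Coordinates on the quotient by the line, with the squaring form. -/
theorem exists_coord {Q K : Type*} [Group Q] [Finite Q] [Field K] [Finite K] [CharP K 2]
    (d : Data Q K) (hQ : IsPGroup 2 Q) (L : Lines d) (hna : ∃ x y : Q, x * y ≠ y * x) :
    ∃ π : Q → K × K, (∀ x y, π (x * y) = π x + π y) ∧ Function.Surjective π ∧
      (∀ x, π x = 0 ↔ ∃ a, d.e a = x) ∧
      ∃ A B C : K, B ≠ 0 ∧ ∀ x, ∃ s, x * x = d.e s ∧
        s ^ 2 = A * (π x).1 ^ 2 + B * (π x).1 * (π x).2 + C * (π x).2 ^ 2 := by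
  classical
  haveI := d.line_normal hQ
  have hmk : ∀ x y : Q, (x : Q ⧸ d.line) = y → ∃ c, x = y * d.e c := fun x y h => by
    obtain ⟨c, hc⟩ := (QuotientGroup.eq).1 h.symm
    exact ⟨c, by rw [hc, mul_inv_cancel_left]⟩
  have hcomm : ∀ u v : Q ⧸ d.line, u * v = v * u := fun u v => by
    obtain ⟨x, rfl⟩ := QuotientGroup.mk_surjective u
    obtain ⟨y, rfl⟩ := QuotientGroup.mk_surjective v
    have := (QuotientGroup.eq_one_iff (co x y)).2 (L.comm_mem x y)
    refine (co_eq_one_iff.1 ?_).eq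
    simpa [co] using this
  let θ : K × K → Q ⧸ d.line := fun v => ((L.D v.1 * L.F v.2 : Q) : Q ⧸ d.line)
  have hline : ∀ c, ((d.e c : Q) : Q ⧸ d.line) = 1 := fun c => (QuotientGroup.eq_one_iff _).2 (d.e_mem c)
  have hθadd : ∀ v w, θ (v + w) = θ v * θ w := by
    rintro ⟨a, b⟩ ⟨a', b'⟩
    obtain ⟨c, hc⟩ := L.D_add a a'
    obtain ⟨c', hc'⟩ := L.F_add b b'
    simp only [θ, Prod.mk_add_mk, hc, hc', QuotientGroup.mk_mul, hline, mul_one]
    calc ((L.D a : Q) : Q ⧸ d.line) * (L.D a' : Q) * ((L.F b : Q) * (L.F b' : Q))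
        = ((L.D a : Q) : Q ⧸ d.line) * (((L.D a' : Q) : Q ⧸ d.line) * (L.F b : Q)) * (L.F b' : Q) := by
          group
      _ = _ := by rw [hcomm ((L.D a' : Q) : Q ⧸ d.line)]; group
  have hθ0 : θ 0 = 1 := by
    have := hθadd 0 0
    rw [add_zero] at this
    exact mul_eq_left.mp this.symm
  have hker : ∀ v, θ v = 1 → v = 0 := fun v h => by
    obtain ⟨h1, h2⟩ := L.unique _ _ ((QuotientGroup.eq_one_iff _).1 h)
    exact Prod.ext h1 h2
  have hinj : Function.Injective θ := fun v w h => by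
    have h2 : θ (v + w) = 1 := by
      rw [hθadd, h, ← hθadd, show w + w = 0 from Prod.ext (CharTwo.add_self_eq_zero _)
        (CharTwo.add_self_eq_zero _), hθ0]
    have := hker _ h2
    exact Prod.ext (CharTwo.add_eq_zero.1 (congrArg Prod.fst this))
      (CharTwo.add_eq_zero.1 (congrArg Prod.snd this))
  have hsurj : ∀ x : Q, ∃ v, θ v = (x : Q ⧸ d.line) := fun x => by
    obtain ⟨a, b, c, rfl⟩ := L.cover x
    exact ⟨(a, b), by simp [θ, hline]⟩
  choose π hπ using hsurj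
  have hπeq : ∀ (x : Q) v, θ v = (x : Q ⧸ d.line) → π x = v := fun x v h => hinj ((hπ x).trans h.symm)
  refine ⟨π, fun x y => hπeq _ _ (by rw [hθadd, hπ, hπ, QuotientGroup.mk_mul]),
    fun v => ⟨L.D v.1 * L.F v.2, hπeq _ _ rfl⟩, fun x => ?_, ?_⟩
  · constructor
    · intro h
      have := hπ x
      rw [h, hθ0, eq_comm, QuotientGroup.eq_one_iff] at this
      exact this
    · rintro ⟨a, rfl⟩
      exact hπeq _ _ (by rw [hθ0, hline])
  -- the squaring form
  have hcen : ∀ (c : K) (g : Q), Commute (d.e c) g := fun c g => d.central hQ c g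
  have padd : ∀ (P : K → Q), (∀ a b, ∃ c, P (a + b) = P a * P b * d.e c) → ∀ a b,
      ∃ r, (∀ g, Commute r g) ∧ P (a + b) = P a * P b * r := fun P h a b => by
    obtain ⟨c, hc⟩ := h a b; exact ⟨_, hcen c, hc⟩
  have pact : ∀ (P : K → Q), (∀ (s : Kˣ) a, ∃ c, d.σ s (P a) = P ((s : K) * a) * d.e c) →
      ∀ (s : Kˣ) a, ∃ r, (∀ g, Commute r g) ∧ d.σ s (P a) = P ((s : K) * a) * r := fun P h s a => by
    obtain ⟨c, hc⟩ := h s a; exact ⟨_, hcen c, hc⟩
  obtain ⟨g, hg, hgsq⟩ := d.pairing hQ L.F L.D (fun a b => L.comm_mem _ _) (padd _ L.F_add)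
    (fun a b => (padd _ L.D_add a b).imp fun r h => ⟨fun c => (h.1 _).symm, h.2⟩) (pact _ L.F_act)
    (fun s a => (pact _ L.D_act s a).imp fun r h => ⟨fun c => (h.1 _).symm, h.2⟩)
  have hsqline : ∀ P : K → Q, (∀ a b, ∃ c, P (a + b) = P a * P b * d.e c) →
      (∀ (s : Kˣ) a, ∃ c, d.σ s (P a) = P ((s : K) * a) * d.e c) →
      ∃ s₁, ∀ a, P a * P a = d.e (a * s₁) := by
    intro P hadd hact
    obtain ⟨s₁, hs₁⟩ := L.sq_mem (P 1)
    refine ⟨s₁, fun a => ?_⟩
    rcases eq_or_ne a 0 with rfl | ha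
    · obtain ⟨c, hc⟩ := hadd 0 0
      rw [add_zero, mul_assoc, left_eq_mul, mul_eq_one_iff_eq_inv, d.e_inv] at hc
      rw [hc, zero_mul, d.e_sq, d.e_zero]
    · obtain ⟨c, hc⟩ := hact (Units.mk0 a ha) 1
      rw [Units.val_mk0, mul_one] at hc
      have e : d.σ (Units.mk0 a ha) (P 1 * P 1) = P a * P a := by
        rw [map_mul, hc]
        calc P a * d.e c * (P a * d.e c) = P a * (d.e c * P a) * d.e c := by group
          _ = _ := by rw [(hcen c (P a)).eq, ← mul_assoc, mul_assoc, d.e_sq, mul_one]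
      rw [← e, ← hs₁, d.act, Units.val_mk0]
  obtain ⟨A₀, hA₀⟩ := hsqline L.D L.D_add L.D_act
  obtain ⟨C₀, hC₀⟩ := hsqline L.F L.F_add L.F_act
  refine ⟨A₀ ^ 2, g 1 1 ^ 2, C₀ ^ 2, ?_, fun x => ?_⟩
  · intro h0
    obtain ⟨x, y, hxy⟩ := hna
    refine hxy ?_
    have hFD : ∀ a b, Commute (L.F a) (L.D b) := fun a b => by
      have h := hgsq a b
      rw [h0, mul_zero, pow_eq_zero_iff two_ne_zero] at h
      rw [← co_eq_one_iff, hg, h, d.e_zero]
    have hDD := d.pairing_self hQ L.D (fun a b => L.comm_mem _ _) (padd _ L.D_add) (pact _ L.D_act)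
    have hFF := d.pairing_self hQ L.F (fun a b => L.comm_mem _ _) (padd _ L.F_add) (pact _ L.F_act)
    obtain ⟨a, b, c, rfl⟩ := L.cover x
    obtain ⟨a', b', c', rfl⟩ := L.cover y
    exact ((((hDD a a').mul_right (hFD b' a).symm).mul_left ((hFD b a').mul_right (hFF b b'))).mul_right
      (hcen c' _).symm).mul_left (hcen c _)
  · obtain ⟨a, b, c, rfl⟩ := L.cover x
    rw [hπeq _ (a, b) (by simp [θ, hline])]
    refine ⟨a * A₀ + b * C₀ + g b a, ?_, ?_⟩
    · rw [d.e_add, d.e_add, ← hA₀, ← hC₀, ← hg]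
      calc L.D a * L.F b * d.e c * (L.D a * L.F b * d.e c)
          = L.D a * L.F b * (d.e c * (L.D a * L.F b)) * d.e c := by group
        _ = L.D a * L.F b * L.D a * L.F b := by
          rw [(hcen c (L.D a * L.F b)).eq, ← mul_assoc, mul_assoc, d.e_sq, mul_one]; group
        _ = L.D a * co (L.F b) (L.D a) * L.D a * L.F b * L.F b := by simp [co, mul_assoc]
        _ = _ := by
          rw [hg]
          calc L.D a * d.e (g b a) * L.D a * L.F b * L.F b
              = L.D a * (d.e (g b a) * (L.D a * L.F b * L.F b)) := by group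
            _ = _ := by rw [(hcen _ _).eq]; group
    · rw [CharTwo.add_sq, CharTwo.add_sq, hgsq]
      ring

section SL

variable (K : Type*) [Field K]

/-- The unitriangular subgroup of `SL₃`. -/
def uniSub : Subgroup (SpecialLinearGroup (Fin 3) K) where
  carrier := {g | ∃ a b c, g = CfsgLib.LocalEvenB.FourFixed.uni a b c}
  one_mem' := ⟨0, 0, 0, CfsgLib.LocalEvenB.FourFixed.uni_zero.symm⟩
  mul_mem' := by
    rintro _ _ ⟨a, b, c, rfl⟩ ⟨a', b', c', rfl⟩
    exact ⟨_, _, _, CfsgLib.LocalEvenB.FourFixed.uni_mul a b c a' b' c'⟩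
  inv_mem' := by
    rintro _ ⟨a, b, c, rfl⟩
    refine ⟨-a, -b, -c + a * b, inv_eq_of_mul_eq_one_right ?_⟩
    rw [CfsgLib.LocalEvenB.FourFixed.uni_mul, ← CfsgLib.LocalEvenB.FourFixed.uni_zero]
    congr 1 <;> ring

variable [Fintype K] [CharP K 2]

theorem psl_sylow (n : ℕ) (hn : 1 ≤ n) (hK : Fintype.card K = 2 ^ n) :
    ∃ S : Sylow 2 (ProjectiveSpecialLinearGroup (Fin 3) K),
      Nonempty (uniSub K ≃* ↥(S : Subgroup (ProjectiveSpecialLinearGroup (Fin 3) K))) := by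
  classical
  haveI : Fact (Nat.Prime 2) := ⟨Nat.prime_two⟩
  have hcard : Nat.card (uniSub K) = 2 ^ (3 * n) := by
    rw [← Nat.card_eq_of_bijective (fun t : K × K × K => (⟨CfsgLib.LocalEvenB.FourFixed.uni t.1 t.2.1 t.2.2,
        _, _, _, rfl⟩ : uniSub K)) ⟨fun s t e => by
          obtain ⟨e1, e2, e3⟩ := CfsgLib.LocalEvenB.FourFixed.uni_inj (congrArg Subtype.val e)
          exact Prod.ext e1 (Prod.ext e2 e3), by
          rintro ⟨_, a, b, c, rfl⟩; exact ⟨(a, b, c), rfl⟩⟩]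
    rw [Nat.card_prod, Nat.card_prod, Nat.card_eq_fintype_card, hK, ← pow_add, ← pow_add]
    congr 1; omega
  have hq1 : Odd (2 ^ n - 1) :=
    Nat.Even.sub_odd Nat.one_le_two_pow (Nat.even_pow.2 ⟨even_two, by omega⟩) odd_one
  have hd : Odd (Nat.card (Subgroup.center (SpecialLinearGroup (Fin 3) K))) := by
    rw [CfsgLib.Classical.card_center_sl 3 (by norm_num)]
    exact Odd.of_dvd_nat (show Odd 3 by decide) (Nat.gcd_dvd_left _ _)
  let π : SpecialLinearGroup (Fin 3) K →* ProjectiveSpecialLinearGroup (Fin 3) K :=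
    QuotientGroup.mk' (Subgroup.center (SpecialLinearGroup (Fin 3) K))
  have hinj : Function.Injective (π.comp (uniSub K).subtype) := by
    refine (injective_iff_map_eq_one _).2 fun g hg => ?_
    have hg' : (g : SpecialLinearGroup (Fin 3) K) ∈ Subgroup.center (SpecialLinearGroup (Fin 3) K) :=
      (QuotientGroup.eq_one_iff _).1 hg
    have h1 : orderOf g ∣ 2 ^ (3 * n) := hcard ▸ orderOf_dvd_natCard g
    have h3 : orderOf g ∣ Nat.card (Subgroup.center (SpecialLinearGroup (Fin 3) K)) := by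
      rw [← Subgroup.orderOf_coe]
      exact Subgroup.orderOf_dvd_natCard _ hg'
    exact orderOf_eq_one_iff.1
      (Nat.eq_one_of_dvd_coprimes (Nat.Coprime.pow_left _ (Nat.coprime_two_left.2 hd)) h1 h3)
  have hH : Nat.card (π.comp (uniSub K).subtype).range = 2 ^ (3 * n) := by
    rw [← Nat.card_congr (MonoidHom.ofInjective hinj).toEquiv, hcard]
  obtain ⟨m, hm, hG⟩ : ∃ m, Odd m ∧ Nat.card (ProjectiveSpecialLinearGroup (Fin 3) K) = 2 ^ (3 * n) * m := by
    obtain ⟨m, hm⟩ : 2 ^ (3 * n) ∣ Nat.card (ProjectiveSpecialLinearGroup (Fin 3) K) :=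
      hH ▸ Subgroup.card_subgroup_dvd_card _
    refine ⟨m, ?_, hm⟩
    have h1 := CfsgLib.Classical.card_sl_mul (F := K) hK 3 (by norm_num)
    rw [← CfsgLib.Classical.card_psl_mul (F := K) hK 3 (by norm_num), hm] at h1
    simp only [Fin.prod_univ_three, Fin.val_zero, Fin.val_one, Fin.val_two, pow_zero, pow_one] at h1
    have e : ((2 ^ n) ^ 3 - 1) * ((2 ^ n) ^ 3 - 2 ^ n) * ((2 ^ n) ^ 3 - (2 ^ n) ^ 2) =
        2 ^ (3 * n) * (((2 ^ n) ^ 3 - 1) * ((2 ^ n) ^ 2 - 1) * (2 ^ n - 1)) := by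
      have e3 : 2 ^ (3 * n) = 2 ^ n * (2 ^ n) ^ 2 := by rw [← pow_mul, ← pow_add]; congr 1; omega
      rw [show (2 ^ n) ^ 3 - 2 ^ n = 2 ^ n * ((2 ^ n) ^ 2 - 1) by rw [Nat.mul_sub, mul_one]; ring_nf,
        show (2 ^ n) ^ 3 - (2 ^ n) ^ 2 = (2 ^ n) ^ 2 * (2 ^ n - 1) by rw [Nat.mul_sub, mul_one]; ring_nf,
        e3]
      ring
    rw [e] at h1
    have h3 : (2 ^ n - 1) * (Nat.gcd 3 (2 ^ n - 1) * m) =
        ((2 ^ n) ^ 3 - 1) * ((2 ^ n) ^ 2 - 1) * (2 ^ n - 1) := by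
      refine Nat.eq_of_mul_eq_mul_left (by positivity : 0 < 2 ^ (3 * n)) ?_
      rw [← h1]; ring
    have hev : ∀ k, 1 ≤ k → Odd ((2 ^ n) ^ k - 1) := fun k hk =>
      Nat.Even.sub_odd (Nat.one_le_pow _ _ (by positivity))
        ((Nat.even_pow.2 ⟨even_two, by omega⟩).pow_of_ne_zero (by omega)) odd_one
    have ho : Odd (((2 ^ n) ^ 3 - 1) * ((2 ^ n) ^ 2 - 1) * (2 ^ n - 1)) :=
      ((hev 3 (by norm_num)).mul (hev 2 (by norm_num))).mul hq1
    rw [← h3] at ho
    exact (Nat.odd_mul.1 (Nat.odd_mul.1 ho).2).2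
  obtain ⟨S⟩ : Nonempty (Sylow 2 (ProjectiveSpecialLinearGroup (Fin 3) K)) := Sylow.nonempty
  obtain ⟨f, hf, hS⟩ := CfsgLib.Involution.SylowTwoType.exists_hom_into_sylow hm hG hH S
  exact ⟨S, ⟨(MonoidHom.ofInjective hinj).trans
    (MulEquiv.ofBijective f ((Nat.bijective_iff_injective_and_card f).2 ⟨hf, hH.trans hS.symm⟩))⟩⟩

end SL

open CfsgLib.RankOne.UnitarySylow in
theorem psu_sylow {F : Type*} [Field F] [Fintype F] {σ : F →+* F} [CharP F 2]
    [hσ : Fact (CfsgLib.Classical.IsConjugation σ)] (q n : ℕ) (hn : 2 ≤ n) (hqn : q = 2 ^ n)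
    [hq : Fact (Fintype.card F = q ^ 2 ∧ ∀ x, σ x = x ^ q)] :
    ∃ S : Sylow 2 (Cfsg.PSU 3 F q),
      Nonempty (Heis σ ≃* ↥(S : Subgroup (Cfsg.PSU 3 F q))) := by
  haveI : Fact (Nat.Prime 2) := ⟨Nat.prime_two⟩
  haveI : Finite (Heis σ) := Nat.finite_of_card_ne_zero (by
    rw [card_heis (σ := σ) (q := q), hqn]; positivity)
  have hd : Odd (Nat.card (Subgroup.center (Cfsg.SU 3 F q))) := by
    rw [CfsgLib.Classical.card_center_SU (F := F) hq.out.1 (by norm_num)]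
    exact Odd.of_dvd_nat (show Odd 3 by decide) (Nat.gcd_dvd_left _ _)
  let ψ : Heis σ →* Cfsg.PSU 3 F q :=
    (QuotientGroup.mk' (Subgroup.center (Cfsg.SU 3 F q))).comp
      ((repSL (σ := σ)).codRestrict _ (repSL_mem (σ := σ) (q := q)))
  have hq3 : q ^ 3 = 2 ^ (3 * n) := by rw [hqn, ← pow_mul, mul_comm]
  have hψ : Function.Injective ψ := by
    refine (injective_iff_map_eq_one _).2 fun g hg => ?_
    set x : Cfsg.SU 3 F q := (repSL (σ := σ)).codRestrict _ (repSL_mem (σ := σ) (q := q)) g with hx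
    have hxc : x ∈ Subgroup.center (Cfsg.SU 3 F q) := (QuotientGroup.eq_one_iff _).1 hg
    have h1 : orderOf x ∣ Nat.card (Subgroup.center (Cfsg.SU 3 F q)) := Subgroup.orderOf_dvd_natCard _ hxc
    have h2 : orderOf x ∣ 2 ^ (3 * n) := by
      refine (orderOf_map_dvd _ g).trans ?_
      rw [← hq3, ← card_heis (σ := σ) (q := q)]
      exact orderOf_dvd_natCard g
    have h3 : x = 1 := orderOf_eq_one_iff.1
      (Nat.eq_one_of_dvd_coprimes (Nat.Coprime.pow_left _ (Nat.coprime_two_left.2 hd)) h2 h1)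
    have e1 := congrArg (fun x : Cfsg.SU 3 F q => (x.1.1 : Matrix (Fin 3) (Fin 3) F) 2 0) h3
    have e2 := congrArg (fun x : Cfsg.SU 3 F q => (x.1.1 : Matrix (Fin 3) (Fin 3) F) 1 0) h3
    simp [hx, repSL, repMat] at e1 e2
    exact Heis.ext e1 e2
  have hp : IsPGroup 2 ψ.range := IsPGroup.of_card (n := 3 * n) (by
    rw [← Nat.card_congr (MonoidHom.ofInjective hψ).toEquiv, card_heis (σ := σ) (q := q), hq3])
  obtain ⟨S', hS'⟩ := hp.exists_le_sylow
  have heq : ψ.range = (S' : Subgroup (Cfsg.PSU 3 F q)) := Subgroup.eq_of_le_of_card_ge hS' (by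
    rw [(UnitarySylow.main (σ := σ) n hn hqn S').1,
      ← Nat.card_congr (MonoidHom.ofInjective hψ).toEquiv, card_heis (σ := σ) (q := q)])
  exact ⟨S', ⟨(MonoidHom.ofInjective hψ).trans (MulEquiv.subgroupCongr heq)⟩⟩

end CfsgLib.RankOne.FixedLine
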