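import Cfsg.Agent.Lib.RankOne.FixedLine.Form
import Mathlib.GroupTheory.PGroup
import Mathlib.GroupTheory.QuotientGroup.Basic

/-!
# A 2-group with an involution whose fixed points are a field line

`Data Q K`: an automorphism `α` of order at most two whose fixed points are `e(K)`, and a commuting
action of `Kˣ` that is scalar multiplication on `e(K)`.
-/

set_option autoImplicit false
set_option linter.style.haveILetI false
set_option linter.unusedSectionVars false

namespace CfsgLib.RankOne.FixedLine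

/-- The set-up. -/
structure Data (Q : Type*) [Group Q] (K : Type*) [Field K] where
  α : MulAut Q
  σ : Kˣ →* MulAut Q
  e : K → Q
  invol : ∀ x, α (α x) = x
  comm : ∀ s x, σ s (α x) = α (σ s x)
  inj : Function.Injective e
  e_add : ∀ a b, e (a + b) = e a * e b
  fixed : ∀ x, α x = x ↔ ∃ a, e a = x
  act : ∀ (s : Kˣ) a, σ s (e a) = e ((s : K) * a)

variable {Q K : Type*} [Group Q] [Finite Q] [Field K] [Finite K] [CharP K 2]

namespace Data

variable (d : Data Q K)

theorem e_zero : d.e 0 = 1 := by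
  have h := d.e_add 0 0
  rw [add_zero] at h
  exact mul_eq_left.mp h.symm

theorem e_sq (a : K) : d.e a * d.e a = 1 := by rw [← d.e_add, CharTwo.add_self_eq_zero, d.e_zero]

theorem e_inv (a : K) : (d.e a)⁻¹ = d.e a := inv_eq_of_mul_eq_one_right (d.e_sq a)

theorem α_e (a : K) : d.α (d.e a) = d.e a := (d.fixed _).2 ⟨a, rfl⟩

/-- A non-trivial α-invariant abelian piece contains a fixed point: the trick `z ↦ z α(z)`. -/
theorem exists_fixed_of_invol {S : Subgroup Q} (hα : ∀ x ∈ S, d.α x ∈ S) {z : Q} (hz : z ∈ S)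
    (hz1 : z ≠ 1) (hz2 : z * z = 1) (hzc : z * d.α z = d.α z * z) :
    ∃ a : K, a ≠ 0 ∧ d.e a ∈ S := by
  suffices h : ∃ w ∈ S, w ≠ 1 ∧ d.α w = w by
    obtain ⟨w, hw, hw1, hwf⟩ := h
    obtain ⟨a, rfl⟩ := (d.fixed w).1 hwf
    exact ⟨a, fun h => hw1 (by rw [h, d.e_zero]), hw⟩
  by_cases h : z * d.α z = 1
  · refine ⟨z, hz, hz1, ?_⟩
    rw [← inv_eq_of_mul_eq_one_right h, inv_eq_of_mul_eq_one_right hz2]
  · exact ⟨z * d.α z, S.mul_mem hz (hα z hz), h, by rw [map_mul, d.invol, hzc]⟩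

/-- A σ-invariant subgroup containing one non-trivial `e a` contains all of them. -/
theorem all_mem {S : Subgroup Q} (hσ : ∀ s, ∀ x ∈ S, d.σ s x ∈ S) {a : K} (ha : a ≠ 0)
    (hmem : d.e a ∈ S) (b : K) : d.e b ∈ S := by
  rcases eq_or_ne b 0 with rfl | hb
  · rw [d.e_zero]; exact S.one_mem
  · have := hσ (Units.mk0 (b / a) (div_ne_zero hb ha)) _ hmem
    rwa [d.act, Units.val_mk0, div_mul_cancel₀ _ ha] at this

theorem exists_involution (hQ : IsPGroup 2 Q) {S : Subgroup Q} (hS : S ≠ ⊥) :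
    ∃ z ∈ S, z ≠ 1 ∧ z * z = 1 := by
  haveI : Fact (Nat.Prime 2) := ⟨Nat.prime_two⟩
  obtain ⟨k, hk⟩ := IsPGroup.iff_card.1 (hQ.to_subgroup S)
  have h2 : 2 ∣ Nat.card S := by
    rcases k with _ | k
    · exact absurd (Subgroup.eq_bot_of_card_eq S (by simpa using hk)) hS
    · exact ⟨2 ^ k, by rw [hk, pow_succ, mul_comm]⟩
  obtain ⟨z, hz⟩ := exists_prime_orderOf_dvd_card' 2 h2
  refine ⟨z, z.2, fun h => ?_, ?_⟩
  · rw [show z = 1 from Subtype.ext h, orderOf_one] at hz
    exact absurd hz (by decide)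
  · have := pow_orderOf_eq_one z
    rw [hz, pow_two] at this
    exact congrArg Subtype.val this

theorem central (hQ : IsPGroup 2 Q) (a : K) (x : Q) : d.e a * x = x * d.e a := by
  haveI : Fact (Nat.Prime 2) := ⟨Nat.prime_two⟩
  rcases subsingleton_or_nontrivial Q with _ | _
  · exact Subsingleton.elim _ _
  haveI := hQ.center_nontrivial
  obtain ⟨z, hz, hz1, hz2⟩ := exists_involution hQ
    ((Subgroup.nontrivial_iff_ne_bot _).1 this : Subgroup.center Q ≠ ⊥)
  have hinv : ∀ (β : MulAut Q) (y : Q), y ∈ Subgroup.center Q → β y ∈ Subgroup.center Q := by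
    intro β y hy
    rw [Subgroup.mem_center_iff] at hy ⊢
    intro g
    obtain ⟨g, rfl⟩ := β.surjective g
    rw [← map_mul, ← map_mul, hy g]
  obtain ⟨b, hb, hbz⟩ := d.exists_fixed_of_invol (hinv d.α) hz hz1 hz2
    (Subgroup.mem_center_iff.1 hz _).symm
  exact ((Subgroup.mem_center_iff.1 (d.all_mem (fun s => hinv _) hb hbz a)) x).symm

/-- The subgroup `e(K)`. -/
def line : Subgroup Q where
  carrier := Set.range d.e
  one_mem' := ⟨0, d.e_zero⟩
  mul_mem' := by rintro _ _ ⟨a, rfl⟩ ⟨b, rfl⟩; exact ⟨a + b, d.e_add a b⟩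
  inv_mem' := by rintro _ ⟨a, rfl⟩; exact ⟨a, (d.e_inv a).symm⟩

theorem mem_line {x : Q} : x ∈ d.line ↔ ∃ a, d.e a = x := Iff.rfl

theorem e_mem (a : K) : d.e a ∈ d.line := ⟨a, rfl⟩

theorem card_line : Nat.card d.line = Nat.card K :=
  (Nat.card_congr (Equiv.ofInjective d.e d.inj)).symm

theorem line_normal (hQ : IsPGroup 2 Q) : d.line.Normal :=
  ⟨fun x hx g => by
    obtain ⟨a, rfl⟩ := hx
    rw [← d.central hQ, mul_inv_cancel_right]
    exact d.e_mem a⟩

theorem map_line_α : d.line.map (d.α : Q →* Q) = d.line := by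
  ext x
  constructor
  · rintro ⟨_, ⟨a, rfl⟩, rfl⟩; exact ⟨a, (d.α_e a).symm⟩
  · rintro ⟨a, rfl⟩; exact ⟨d.e a, d.e_mem a, d.α_e a⟩

theorem map_line_σ (s : Kˣ) : d.line.map ((d.σ s : MulAut Q) : Q →* Q) = d.line := by
  ext x
  constructor
  · rintro ⟨_, ⟨a, rfl⟩, rfl⟩; exact ⟨_, (d.act s a).symm⟩
  · rintro ⟨a, rfl⟩
    refine ⟨d.e (((s⁻¹ : Kˣ) : K) * a), d.e_mem _, ?_⟩
    show d.σ s (d.e _) = _
    rw [d.act, ← mul_assoc, ← Units.val_mul, mul_inv_cancel, Units.val_one, one_mul]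

/-- The next layer: elements moved by `α` inside the line. -/
theorem exists_moved (hQ : IsPGroup 2 Q) (hne : d.line ≠ ⊤) (a : K) :
    ∃ g, d.α g = g * d.e a := by
  classical
  haveI : Fact (Nat.Prime 2) := ⟨Nat.prime_two⟩
  let W : Subgroup Q :=
    { carrier := {g | ∃ b, d.α g = g * d.e b}
      one_mem' := ⟨0, by rw [map_one, d.e_zero, mul_one]⟩
      mul_mem' := by
        rintro g h ⟨b, hb⟩ ⟨c, hc⟩
        refine ⟨b + c, ?_⟩
        calc d.α (g * h) = g * (d.e b * h) * d.e c := by rw [map_mul, hb, hc]; group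
          _ = _ := by rw [d.central hQ b h, d.e_add]; group
      inv_mem' := by
        rintro g ⟨b, hb⟩
        refine ⟨b, ?_⟩
        rw [map_inv, hb, mul_inv_rev, d.e_inv, d.central hQ] }
  haveI := d.line_normal hQ
  haveI : Nontrivial (Q ⧸ d.line) := QuotientGroup.nontrivial_iff.2 hne
  have hQ' : IsPGroup 2 (Q ⧸ d.line) := hQ.to_quotient _
  haveI := hQ'.center_nontrivial
  have hcne : Subgroup.center (Q ⧸ d.line) ≠ ⊥ := (Subgroup.nontrivial_iff_ne_bot _).1 this
  obtain ⟨k, hk⟩ := IsPGroup.iff_card.1 (hQ'.to_subgroup (Subgroup.center (Q ⧸ d.line)))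
  have h2 : 2 ∣ Nat.card (Subgroup.center (Q ⧸ d.line)) := by
    rcases k with _ | k
    · exact absurd (Subgroup.eq_bot_of_card_eq _ (by simpa using hk)) hcne
    · exact ⟨2 ^ k, by rw [hk, pow_succ, mul_comm]⟩
  obtain ⟨z, hz⟩ := exists_prime_orderOf_dvd_card' 2 h2
  obtain ⟨g, hg⟩ := QuotientGroup.mk_surjective (z : Q ⧸ d.line)
  have hgl : g ∉ d.line := fun h => by
    rw [(QuotientGroup.eq_one_iff g).2 h] at hg
    rw [show z = 1 from Subtype.ext hg.symm, orderOf_one] at hz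
    exact absurd hz (by decide)
  have hg2 : g * g ∈ d.line := by
    have := pow_orderOf_eq_one z
    rw [hz, pow_two] at this
    have h := congrArg Subtype.val this
    rw [Subgroup.coe_mul, ← hg, ← QuotientGroup.mk_mul, Subgroup.coe_one,
      QuotientGroup.eq_one_iff] at h
    exact h
  have hgc : g⁻¹ * (d.α g)⁻¹ * g * d.α g ∈ d.line := by
    rw [← QuotientGroup.eq_one_iff]
    have := Subgroup.mem_center_iff.1 z.2 ((d.α g : Q) : Q ⧸ d.line)
    rw [← hg] at this
    simp only [QuotientGroup.mk_mul, QuotientGroup.mk_inv]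
    rw [mul_assoc, ← this]
    group
  -- a point outside the line moved inside the line
  obtain ⟨w, hwl, hw⟩ : ∃ w, w ∉ d.line ∧ w ∈ W := by
    by_cases h : g * d.α g ∈ d.line
    · refine ⟨g, hgl, ?_⟩
      obtain ⟨b, hb⟩ := h
      obtain ⟨c, hc⟩ := hg2
      refine ⟨c + b, ?_⟩
      calc d.α g = g * ((g * g)⁻¹ * (g * d.α g)) := by group
        _ = _ := by rw [← hb, ← hc, d.e_inv, d.e_add]
    · refine ⟨g * d.α g, h, ?_⟩
      obtain ⟨b, hb⟩ := hgc
      refine ⟨b, ?_⟩
      calc d.α (g * d.α g) = g * d.α g * (g⁻¹ * (d.α g)⁻¹ * g * d.α g)⁻¹⁻¹ * 1 := by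
            rw [map_mul, d.invol, inv_inv, mul_one]
            have hcen : ∀ y : Q, g⁻¹ * (d.α g)⁻¹ * g * d.α g * y = y * (g⁻¹ * (d.α g)⁻¹ * g * d.α g) :=
              fun y => by rw [← hb]; exact d.central hQ b y
            have hb2 : (g⁻¹ * (d.α g)⁻¹ * g * d.α g)⁻¹ = g⁻¹ * (d.α g)⁻¹ * g * d.α g := by
              rw [← hb, d.e_inv]
            calc d.α g * g = g * d.α g * (g⁻¹ * (d.α g)⁻¹ * g * d.α g)⁻¹ := by group
              _ = _ := by rw [hb2]
        _ = _ := by rw [inv_inv, mul_one, ← hb]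
  obtain ⟨b, hb⟩ := hw
  have hb0 : b ≠ 0 := fun h => hwl ((d.fixed w).1 (by rw [hb, h, d.e_zero, mul_one]))
  rcases eq_or_ne a 0 with rfl | ha
  · exact ⟨1, by rw [map_one, d.e_zero, mul_one]⟩
  · refine ⟨d.σ (Units.mk0 (a / b) (div_ne_zero ha hb0)) w, ?_⟩
    rw [← d.comm, hb, map_mul, d.act, Units.val_mk0, div_mul_cancel₀ _ hb0]

/-- Representatives of the next layer. -/
noncomputable def rep (hQ : IsPGroup 2 Q) (hne : d.line ≠ ⊤) (a : K) : Q :=
  (d.exists_moved hQ hne a).choose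

theorem α_rep (hQ : IsPGroup 2 Q) (hne : d.line ≠ ⊤) (a : K) :
    d.α (d.rep hQ hne a) = d.rep hQ hne a * d.e a :=
  (d.exists_moved hQ hne a).choose_spec

theorem eq_rep (hQ : IsPGroup 2 Q) (hne : d.line ≠ ⊤) {g : Q} {a : K} (hg : d.α g = g * d.e a) :
    (d.rep hQ hne a)⁻¹ * g ∈ d.line := by
  refine (d.fixed _).1 ?_
  rw [map_mul, map_inv, d.α_rep, hg, mul_inv_rev, d.e_inv]
  calc d.e a * (d.rep hQ hne a)⁻¹ * (g * d.e a)
      = d.e a * ((d.rep hQ hne a)⁻¹ * g) * d.e a := by group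
    _ = _ := by rw [d.central hQ, mul_assoc, d.e_sq, mul_one]

/-- The data on the quotient by the line. -/
noncomputable def quot (hQ : IsPGroup 2 Q) (hne : d.line ≠ ⊤) [d.line.Normal] :
    Data (Q ⧸ d.line) K where
  α := QuotientGroup.congr d.line d.line d.α d.map_line_α
  σ :=
    { toFun := fun s => QuotientGroup.congr d.line d.line (d.σ s) (d.map_line_σ s)
      map_one' := MulEquiv.ext fun x => by
        obtain ⟨x, rfl⟩ := QuotientGroup.mk_surjective x
        simp
      map_mul' := fun s t => MulEquiv.ext fun x => by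
        obtain ⟨x, rfl⟩ := QuotientGroup.mk_surjective x
        simp }
  e a := ((d.rep hQ hne a : Q) : Q ⧸ d.line)
  invol x := by
    obtain ⟨x, rfl⟩ := QuotientGroup.mk_surjective x
    simp [d.invol]
  comm s x := by
    obtain ⟨x, rfl⟩ := QuotientGroup.mk_surjective x
    simp [d.comm]
  inj a b h := by
    obtain ⟨c, hc⟩ := (QuotientGroup.eq).1 h
    have hb : d.rep hQ hne b = d.rep hQ hne a * d.e c := by rw [hc]; group
    have := d.α_rep hQ hne b
    rw [hb, map_mul, d.α_rep, d.α_e] at this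
    rw [mul_assoc, mul_assoc] at this
    have h2 := mul_left_cancel this
    rw [← d.e_add, ← d.e_add] at h2
    have := d.inj h2
    rw [add_comm c b] at this
    exact add_right_cancel this
  e_add a b := by
    rw [← QuotientGroup.mk_mul, QuotientGroup.eq]
    refine d.eq_rep hQ hne (g := d.rep hQ hne a * d.rep hQ hne b) ?_
    calc d.α (d.rep hQ hne a * d.rep hQ hne b)
        = d.rep hQ hne a * (d.e a * d.rep hQ hne b) * d.e b := by
          rw [map_mul, d.α_rep, d.α_rep]; group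
      _ = _ := by rw [d.central hQ a, d.e_add]; group
  fixed x := by
    obtain ⟨x, rfl⟩ := QuotientGroup.mk_surjective x
    rw [QuotientGroup.congr_mk, eq_comm, QuotientGroup.eq]
    constructor
    · rintro ⟨a, ha⟩
      refine ⟨a, ?_⟩
      rw [QuotientGroup.eq]
      exact d.eq_rep hQ hne (by rw [ha]; group)
    · rintro ⟨a, ha⟩
      rw [QuotientGroup.eq] at ha
      obtain ⟨c, hc⟩ := ha
      have hx : x = d.rep hQ hne a * d.e c := by rw [hc]; group
      refine ⟨a, ?_⟩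
      rw [hx, map_mul, d.α_rep, d.α_e]
      calc d.e a = (d.e c)⁻¹ * (d.e a * d.e c) := by
            rw [← d.central hQ c (d.e a), inv_mul_cancel_left]
        _ = _ := by group
  act s a := by
    show QuotientGroup.congr d.line d.line (d.σ s) (d.map_line_σ s) _ = _
    rw [QuotientGroup.congr_mk, eq_comm, QuotientGroup.eq]
    refine d.eq_rep hQ hne ?_
    show d.α (d.σ s (d.rep hQ hne a)) = d.σ s (d.rep hQ hne a) * _
    rw [← d.comm, d.α_rep, map_mul, d.act]

end Data

end CfsgLib.RankOne.FixedLine
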