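import Mathlib.FieldTheory.Finite.Basic
import Mathlib.Algebra.CharP.Two
import Mathlib.Tactic

/-!
# Biadditive maps of weight one on a finite field of characteristic two

A biadditive `g : K × K → K` with `g (s x, s y) = s g (x, y)` satisfies `g (x, y)² = x y g (1, 1)²`.
-/

set_option autoImplicit false

namespace CfsgLib.RankOne.FixedLine

variable {K : Type*} [Field K] [Finite K] [CharP K 2]

theorem exists_sqrt (z : K) : ∃ w : K, w ^ 2 = z :=
  Finite.injective_iff_surjective.1 (fun a b h => frobenius_inj K 2 (by simpa [frobenius_def] using h)) z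

theorem biadd_sq (g : K → K → K) (h1 : ∀ x y z, g (x + y) z = g x z + g y z)
    (h2 : ∀ x y z, g x (y + z) = g x y + g x z) (hs : ∀ s x y, s ≠ 0 → g (s * x) (s * y) = s * g x y)
    (x y : K) : g x y ^ 2 = x * y * g 1 1 ^ 2 := by
  have hG2 : ∀ a b c, g a (b + c) ^ 2 = g a b ^ 2 + g a c ^ 2 := fun a b c => by
    rw [h2, CharTwo.add_sq]
  set H : K → K := fun z => g z 1 ^ 2 with hH
  have hHadd : ∀ a b, H (a + b) = H a + H b := fun a b => by
    simp only [hH, h1, CharTwo.add_sq]
  have hG : ∀ a b, b ≠ 0 → g a b ^ 2 = b ^ 2 * H (a / b) := fun a b hb => by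
    have := hs b (a / b) 1 hb
    rw [mul_div_cancel₀ _ hb, mul_one] at this
    rw [this, mul_pow]
  have key : ∀ z w, w ≠ 0 → H (z * w) = w ^ 2 * H (z / w) := by
    intro z w hw
    rcases eq_or_ne w 1 with rfl | hw1
    · simp
    have hw' : (1 + w) ≠ 0 := fun h => hw1 (by
      have := eq_neg_of_add_eq_zero_right h; rwa [CharTwo.neg_eq] at this)
    have e := hG2 (z * (1 + w)) 1 w
    rw [hG _ _ hw', hG _ _ one_ne_zero, hG _ _ hw, mul_div_cancel_right₀ _ hw', div_one,
      show z * (1 + w) = z + z * w by ring, add_div, mul_div_cancel_right₀ _ hw, hHadd, hHadd,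
      CharTwo.add_sq] at e
    linear_combination -e - (w ^ 2 * H (z / w)) * CharTwo.two_eq_zero (R := K)
  have h00 : ∀ a, g a 0 = 0 := fun a => by simpa using h2 a 0 0
  have hlin : ∀ z, H z = z * H 1 := by
    intro z
    obtain ⟨w, rfl⟩ := exists_sqrt z
    rcases eq_or_ne w 0 with rfl | hw
    · rw [zero_pow two_ne_zero, zero_mul]
      have := hHadd 0 0
      rw [add_zero, CharTwo.add_self_eq_zero] at this
      exact this
    · have := key w w hw
      rwa [div_self hw, ← pow_two] at this
  rcases eq_or_ne y 0 with rfl | hy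
  · rw [h00, mul_zero, zero_mul, zero_pow two_ne_zero]
  · rw [hG x y hy, hlin, hH]
    field_simp

theorem alt_eq_zero (g : K → K → K) (h1 : ∀ x y z, g (x + y) z = g x z + g y z)
    (h2 : ∀ x y z, g x (y + z) = g x y + g x z) (hs : ∀ s x y, s ≠ 0 → g (s * x) (s * y) = s * g x y)
    (h0 : g 1 1 = 0) (x y : K) : g x y = 0 := by
  have := biadd_sq g h1 h2 hs x y
  rw [h0, zero_pow two_ne_zero, mul_zero] at this
  exact pow_eq_zero_iff two_ne_zero |>.1 this

end CfsgLib.RankOne.FixedLine
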