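import Cfsg.Agent.Lib.RankOne.FixedLine.Models
import Cfsg.Agent.Lib.RankOne.UnitaryAut
import Mathlib.Algebra.Polynomial.SpecificDegree

/-!
# A 2-group with a fixed field line is a Sylow 2-subgroup of `L₃(q)` or `U₃(q)`
-/

set_option autoImplicit false
set_option linter.style.haveILetI false
set_option linter.unusedSectionVars false

namespace CfsgLib.RankOne.FixedLine

open CfsgLib.LocalEvenB.FourFixed (uni uni_mul uni_inj uni_zero)
open CfsgLib.RankOne.UnitarySylow
open Polynomial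

universe u

variable {Q : Type u} [Group Q] [Finite Q] {K : Type} [Field K] [Fintype K] [CharP K 2]

theorem sq_inj {a b : K} (h : a ^ 2 = b ^ 2) : a = b :=
  frobenius_inj K 2 (by simpa [frobenius_def] using h)

theorem case_sl (d : Data Q K) (hQ : IsPGroup 2 Q) (π : Q → K × K)
    (hπ : ∀ x y, π (x * y) = π x + π y) (hπs : Function.Surjective π)
    (hπk : ∀ x, π x = 0 ↔ ∃ a, d.e a = x) (p₁ p₂ p₃ p₄ : K) (hdet : p₁ * p₄ + p₂ * p₃ ≠ 0)
    (hsq : ∀ x, ∃ s, x * x = d.e s ∧
      s ^ 2 = (p₁ * (π x).1 + p₂ * (π x).2) * (p₃ * (π x).1 + p₄ * (π x).2)) :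
    Nonempty (Q ≃* uniSub K) := by
  classical
  let D := p₁ * p₄ + p₂ * p₃
  let l : K × K → K × K := fun v => (p₁ * v.1 + p₂ * v.2, p₃ * v.1 + p₄ * v.2)
  let m : K × K → K × K := fun w => ((p₄ * w.1 + p₂ * w.2) / D, (p₃ * w.1 + p₁ * w.2) / D)
  have h2 := CharTwo.two_eq_zero (R := K)
  have hlm : ∀ w, l (m w) = w := fun w => by
    have hD : D ≠ 0 := hdet
    refine Prod.ext ?_ ?_ <;> simp only [l, m] <;> field_simp <;> simp only [D]
    · linear_combination (p₁ * p₂ * w.2) * h2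
    · linear_combination (p₃ * p₄ * w.1) * h2
  have hml : ∀ v, m (l v) = v := fun v => by
    have hD : D ≠ 0 := hdet
    refine Prod.ext ?_ ?_ <;> simp only [l, m] <;> field_simp <;> simp only [D]
    · linear_combination (p₂ * p₄ * v.2) * h2
    · linear_combination (p₁ * p₃ * v.1) * h2
  have hmadd : ∀ v w, m (v + w) = m v + m w := fun v w => by
    refine Prod.ext ?_ ?_ <;> simp only [m, Prod.fst_add, Prod.snd_add] <;> ring
  choose q hq using fun v : K × K =>
    exists_sqrt ((p₁ * v.1 + p₂ * v.2) * (p₃ * v.1 + p₄ * v.2))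
  have huni : ∀ g : uniSub K, ∃ a b c, (g : Matrix.SpecialLinearGroup (Fin 3) K) = uni a b c :=
    fun g => g.2
  choose ga gb gc hg using huni
  have hcoord : ∀ (g : uniSub K) a b c, (g : Matrix.SpecialLinearGroup (Fin 3) K) = uni a b c →
      ga g = a ∧ gb g = b ∧ gc g = c := fun g a b c h => uni_inj ((hg g).symm.trans h)
  have hgmul : ∀ g h : uniSub K, ga (g * h) = ga g + ga h ∧ gb (g * h) = gb g + gb h ∧
      gc (g * h) = gc g + gc h + ga g * gb h := fun g h =>
    hcoord _ _ _ _ (by rw [Subgroup.coe_mul, hg, hg, uni_mul])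
  let eT : K → uniSub K := fun c => ⟨uni 0 0 (c ^ 2), _, _, _, rfl⟩
  let πT : uniSub K → K × K := fun g => m (ga g, gb g)
  haveI : Finite (uniSub K) := Finite.of_injective (fun g => (ga g, gb g, gc g)) fun g h e => by
    simp only [Prod.mk.injEq] at e
    exact Subtype.ext (by rw [hg g, hg h, e.1, e.2.1, e.2.2])
  refine SuzukiTwoTypeA.exists_iso_of_squares CharTwo.add_self_eq_zero q d.e eT π πT d.inj d.e_add
    (fun a x => (d.central hQ a x).symm) hπ hπs hπk (fun x => ?_) ?_ ?_ ?_ ?_ ?_ ?_ ?_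
  · obtain ⟨s, hs, hs2⟩ := hsq x
    rw [hs, sq_inj (hs2.trans (hq (π x)).symm)]
  · intro a b h
    exact sq_inj (uni_inj (congrArg Subtype.val h)).2.2
  · intro a b
    exact Subtype.ext (by simp only [eT, Subgroup.coe_mul, uni_mul, CharTwo.add_sq]; simp)
  · intro a g
    exact Subtype.ext (by
      simp only [eT, Subgroup.coe_mul, hg g, uni_mul]
      simp [add_comm])
  · intro g h
    simp only [πT, (hgmul g h).1, (hgmul g h).2.1]
    rw [← hmadd]; rfl
  · intro v
    refine ⟨⟨uni (l v).1 (l v).2 0, _, _, _, rfl⟩, ?_⟩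
    simp only [πT]
    rw [(hcoord _ _ _ _ rfl).1, (hcoord _ _ _ _ rfl).2.1]
    exact hml v
  · intro g
    constructor
    · intro h
      have := congrArg l h
      rw [hlm] at this
      simp only [l, Prod.fst_zero, Prod.snd_zero, mul_zero, add_zero, Prod.mk.injEq] at this
      obtain ⟨c, hc⟩ := exists_sqrt (gc g)
      exact ⟨c, Subtype.ext (by simp only [eT]; rw [hg g, this.1, this.2, hc])⟩
    · rintro ⟨c, rfl⟩
      have := hcoord (eT c) 0 0 (c ^ 2) rfl
      simp only [πT, this.1, this.2.1]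
      simp [m]
  · intro g
    refine Subtype.ext ?_
    have e := hlm (ga g, gb g)
    simp only [l, Prod.mk.injEq] at e
    simp only [eT, πT, Subgroup.coe_mul, hg g, uni_mul, hq]
    rw [e.1, e.2, CharTwo.add_self_eq_zero, CharTwo.add_self_eq_zero, CharTwo.add_self_eq_zero,
      zero_add]

theorem case_su (d : Data Q K) (hQ : IsPGroup 2 Q) (π : Q → K × K)
    (hπ : ∀ x y, π (x * y) = π x + π y) (hπs : Function.Surjective π)
    (hπk : ∀ x, π x = 0 ↔ ∃ a, d.e a = x) (A B C : K) (hA : A ≠ 0)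
    (hroot : ∀ x, A * x ^ 2 + B * x + C ≠ 0)
    (hsq : ∀ x, ∃ s, x * x = d.e s ∧
      s ^ 2 = A * (π x).1 ^ 2 + B * (π x).1 * (π x).2 + C * (π x).2 ^ 2) (n : ℕ) (hn : 2 ≤ n)
    (hK : Fintype.card K = 2 ^ n) :
    ∃ (F : Type) (_ : Field F) (_ : Fintype F), Fintype.card F = 4 ^ n ∧
      ∃ S : Sylow 2 (Cfsg.PSU 3 F (2 ^ n)),
        Nonempty (Q ≃* ↥(S : Subgroup (Cfsg.PSU 3 F (2 ^ n)))) := by
  classical
  set P : K[X] := X ^ 2 + Polynomial.C (B / A) * X + Polynomial.C (C / A) with hP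
  have hdeg : P.natDegree = 2 := by rw [hP]; compute_degree!
  have hmonic : P.Monic := by rw [hP]; monicity!
  have hirr : Irreducible P := by
    rw [irreducible_iff_roots_eq_zero_of_degree_le_three (by omega) (by omega)]
    refine Multiset.eq_zero_of_forall_notMem fun x hx => hroot x ?_
    rw [mem_roots hmonic.ne_zero, IsRoot.def, hP] at hx
    simp only [eval_add, eval_pow, eval_X, eval_mul, eval_C] at hx
    field_simp at hx
    linear_combination hx
  haveI : Fact (Irreducible P) := ⟨hirr⟩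
  haveI : Module.Finite K (AdjoinRoot P) := hmonic.finite_adjoinRoot
  haveI : Finite (AdjoinRoot P) := Module.finite_of_finite K
  letI : Fintype (AdjoinRoot P) := Fintype.ofFinite _
  haveI : CharP (AdjoinRoot P) 2 := charP_of_injective_algebraMap (algebraMap K (AdjoinRoot P)).injective 2
  have hcard : Fintype.card (AdjoinRoot P) = (2 ^ n) ^ 2 := by
    rw [Module.card_eq_pow_finrank (K := K), hK, (AdjoinRoot.powerBasis hmonic.ne_zero).finrank,
      AdjoinRoot.powerBasis_dim, hdeg]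
  obtain ⟨σ, hσq, hσc⟩ := CfsgLib.Classical.exists_frob (q := 2 ^ n) hcard
  haveI : Fact (CfsgLib.Classical.IsConjugation σ) := ⟨hσc⟩
  haveI : Fact (Fintype.card (AdjoinRoot P) = (2 ^ n) ^ 2 ∧ ∀ x, σ x = x ^ (2 ^ n)) := ⟨hcard, hσq⟩
  set ι : K →+* AdjoinRoot P := algebraMap K (AdjoinRoot P) with hι
  have hσι : ∀ a, σ (ι a) = ι a := fun a => by
    rw [hσq, ← map_pow, ← hK, FiniteField.pow_card]
  set θ : AdjoinRoot P := AdjoinRoot.root P with hθ
  have hθP : θ ^ 2 + ι (B / A) * θ + ι (C / A) = 0 := by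
    have := AdjoinRoot.eval₂_root P
    simp only [hP, eval₂_add, eval₂_pow, eval₂_X, eval₂_mul, eval₂_C] at this
    exact this
  have hθK : ∀ a, θ ≠ ι a := by
    intro a h
    rw [h, ← map_pow, ← map_mul, ← map_add, ← map_add, map_eq_zero ι] at hθP
    refine hroot a ?_
    field_simp at hθP
    linear_combination hθP
  let w : K × K → AdjoinRoot P := fun v => ι v.1 + ι v.2 * θ
  have hwinj : Function.Injective w := fun v u h => by
    have hb : v.2 = u.2 := by
      by_contra hb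
      refine hθK ((u.1 - v.1) / (v.2 - u.2)) ?_
      have : ι (v.2 - u.2) ≠ 0 := (map_ne_zero ι).2 (sub_ne_zero.2 hb)
      rw [map_div₀, eq_div_iff this, map_sub, map_sub]
      simp only [w] at h
      linear_combination h
    simp only [w, hb, add_left_inj] at h
    exact Prod.ext (ι.injective h) hb
  have hσne : σ θ ≠ θ := by
    intro h
    refine hσc.ne_id (RingHom.ext fun z => ?_)
    obtain ⟨v, rfl⟩ := ((Fintype.bijective_iff_injective_and_card w).2
      ⟨hwinj, by rw [Fintype.card_prod, hK, hcard, pow_two]⟩).2 z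
    simp only [w, map_add, map_mul, hσι, h, RingHom.id_apply]
  have h2 := CharTwo.two_eq_zero (R := AdjoinRoot P)
  have hσθ : σ θ = θ + ι (B / A) := by
    have e := congrArg σ hθP
    rw [map_add, map_add, map_pow, map_mul, hσι, hσι, map_zero] at e
    have hm : (σ θ - θ) * (σ θ - θ - ι (B / A)) = 0 := by
      linear_combination e - hθP + (θ ^ 2 - σ θ * θ - ι (B / A) * σ θ + ι (B / A) * θ) * h2
    rcases mul_eq_zero.1 hm with h | h
    · exact absurd (sub_eq_zero.1 h) hσne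
    · linear_combination h
  obtain ⟨r, hr⟩ := exists_sqrt A
  have hr0 : r ≠ 0 := by rintro rfl; exact hA (by rw [← hr, zero_pow two_ne_zero])
  let ψ : K × K → AdjoinRoot P := fun v => ι r * w v
  have hψ : Function.Bijective ψ := (Fintype.bijective_iff_injective_and_card ψ).2
    ⟨fun v u h => hwinj (mul_left_cancel₀ ((map_ne_zero ι).2 hr0) h),
      by rw [Fintype.card_prod, hK, hcard, pow_two]⟩
  have hψadd : ∀ v u, ψ (v + u) = ψ v + ψ u := fun v u => by
    simp only [ψ, w, Prod.fst_add, Prod.snd_add, map_add]; ring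
  have hψN : ∀ v, ψ v * σ (ψ v) = ι (A * v.1 ^ 2 + B * v.1 * v.2 + C * v.2 ^ 2) := fun v => by
    simp only [ψ, w, map_mul, map_add, hσι, hσθ, map_pow]
    have e1 : ι r * ι r = ι A := by rw [← map_mul, ← pow_two, hr]
    have e2 : ι A * ι (B / A) = ι B := by rw [← map_mul, mul_div_cancel₀ _ hA]
    have e3 : ι A * ι (C / A) = ι C := by rw [← map_mul, mul_div_cancel₀ _ hA]
    linear_combination (ι v.1 + ι v.2 * θ) * (ι v.1 + ι v.2 * (θ + ι (B / A))) * e1 +
      (ι A * ι v.2 ^ 2) * hθP + (ι v.1 * ι v.2) * e2 - (ι v.2 ^ 2) * e3 +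
      (ι A * ι v.1 * ι v.2 * θ - ι v.2 ^ 2 * ι C) * h2
  choose q hq using fun v : K × K => exists_sqrt (A * v.1 ^ 2 + B * v.1 * v.2 + C * v.2 ^ 2)
  let e := Equiv.ofBijective ψ hψ
  let πT : Heis σ → K × K := fun g => e.symm g.c
  let eT : K → Heis σ := fun a => cent (ι (a ^ 2)) (hσι _)
  have hπTc : ∀ g, ψ (πT g) = g.c := fun g => e.apply_symm_apply g.c
  haveI : Finite (Heis σ) := Nat.finite_of_card_ne_zero (by
    rw [card_heis (σ := σ) (q := 2 ^ n)]; positivity)
  obtain ⟨S, ⟨f⟩⟩ := psu_sylow (σ := σ) (2 ^ n) n hn rfl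
  obtain ⟨g⟩ : Nonempty (Q ≃* Heis σ) := by
    refine SuzukiTwoTypeA.exists_iso_of_squares CharTwo.add_self_eq_zero q d.e eT π πT d.inj d.e_add
      (fun a x => (d.central hQ a x).symm) hπ hπs hπk (fun x => ?_) ?_ ?_ ?_ ?_ ?_ ?_ ?_
    · obtain ⟨s, hs, hs2⟩ := hsq x
      rw [hs, sq_inj (hs2.trans (hq (π x)).symm)]
    · intro a b h
      exact sq_inj (ι.injective (congrArg Heis.b h))
    · intro a b
      simp only [eT, cent_mul, CharTwo.add_sq, map_add]
    · intro a x
      exact Subgroup.mem_center_iff.1 (cent_mem _ _) x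
    · intro x y
      refine hψ.1 ?_
      rw [hψadd, hπTc, hπTc, hπTc, mul_c]
    · intro v
      obtain ⟨x, hx⟩ := exists_elt (σ := σ) (ψ v)
      exact ⟨x, hψ.1 (by rw [hπTc, hx])⟩
    · intro x
      constructor
      · intro h
        have hc : x.c = 0 := by rw [← hπTc x, h]; simp [ψ, w]
        obtain ⟨a, ha⟩ : ∃ a : K, ι a = x.b := by
          obtain ⟨v, hv⟩ := hψ.2 (ι r * x.b)
          have hb := fixed_of_c_eq_zero hc
          have hw : w v = x.b := mul_left_cancel₀ ((map_ne_zero ι).2 hr0) hv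
          rw [← hw] at hb
          simp only [w, map_add, map_mul, hσι, hσθ] at hb
          have h0 : ι v.2 * (σ θ - θ) = 0 := by rw [hσθ]; linear_combination hb
          have := (mul_eq_zero.1 h0).resolve_right (sub_ne_zero.2 hσne)
          exact ⟨v.1, by rw [← hw]; simp [w, this]⟩
        obtain ⟨a, rfl⟩ := exists_sqrt a
        exact ⟨a, Heis.ext hc.symm ha⟩
      · rintro ⟨a, rfl⟩
        refine hψ.1 ?_
        rw [hπTc]
        simp [ψ, w, eT, cent]
    · intro x
      rw [mul_self_eq]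
      refine Heis.ext rfl ?_
      simp only [eT, cent]
      rw [hq, ← hψN, hπTc]
  exact ⟨AdjoinRoot P, inferInstance, inferInstance, by rw [hcard, ← pow_mul, mul_comm, pow_mul]; rfl,
    S, ⟨g.trans f⟩⟩

/-- The two models. -/
theorem exists_models (d : Data Q K) (hQ : IsPGroup 2 Q) (L : Lines d)
    (hna : ∃ x y : Q, x * y ≠ y * x) (n : ℕ) (hn : 2 ≤ n) (hK : Fintype.card K = 2 ^ n) :
    (∃ (F : Type) (_ : Field F) (_ : Fintype F), Fintype.card F = 4 ^ n ∧
        ∃ S : Sylow 2 (Cfsg.PSU 3 F (2 ^ n)), Nonempty (Q ≃* ↥(S : Subgroup (Cfsg.PSU 3 F (2 ^ n))))) ∨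
      (∃ (F : Type) (_ : Field F) (_ : Fintype F), Fintype.card F = 2 ^ n ∧
        ∃ S : Sylow 2 (Matrix.ProjectiveSpecialLinearGroup (Fin 3) F),
          Nonempty (Q ≃* ↥(S : Subgroup (Matrix.ProjectiveSpecialLinearGroup (Fin 3) F)))) := by
  obtain ⟨π, hπ, hπs, hπk, A, B, C, hB, hsq⟩ := exists_coord d hQ L hna
  have hsl : ∀ p₁ p₂ p₃ p₄ : K, p₁ * p₄ + p₂ * p₃ ≠ 0 →
      (∀ a b : K, A * a ^ 2 + B * a * b + C * b ^ 2 = (p₁ * a + p₂ * b) * (p₃ * a + p₄ * b)) →
      ∃ (F : Type) (_ : Field F) (_ : Fintype F), Fintype.card F = 2 ^ n ∧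
        ∃ S : Sylow 2 (Matrix.ProjectiveSpecialLinearGroup (Fin 3) F),
          Nonempty (Q ≃* ↥(S : Subgroup (Matrix.ProjectiveSpecialLinearGroup (Fin 3) F))) := by
    intro p₁ p₂ p₃ p₄ hdet hfac
    obtain ⟨g⟩ := case_sl d hQ π hπ hπs hπk p₁ p₂ p₃ p₄ hdet
      (fun x => (hsq x).imp fun s h => ⟨h.1, h.2.trans (hfac _ _)⟩)
    obtain ⟨S, ⟨f⟩⟩ := psl_sylow K n (by omega) hK
    exact ⟨K, inferInstance, inferInstance, hK, S, ⟨g.trans f⟩⟩
  have h2 := CharTwo.two_eq_zero (R := K)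
  by_cases hA : A = 0
  · exact Or.inr (hsl 0 1 B C (by simpa using hB) fun a b => by rw [hA]; ring)
  by_cases hroot : ∀ x, A * x ^ 2 + B * x + C ≠ 0
  · exact Or.inl (case_su d hQ π hπ hπs hπk A B C hA hroot hsq n hn hK)
  push Not at hroot
  obtain ⟨r, hr⟩ := hroot
  refine Or.inr (hsl 1 r A (B + A * r) ?_ fun a b => ?_)
  · rw [show 1 * (B + A * r) + r * A = B by linear_combination (A * r) * h2]
    exact hB
  · linear_combination b ^ 2 * hr - (A * r * a * b + (A * r ^ 2 + B * r) * b ^ 2) * h2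

end CfsgLib.RankOne.FixedLine
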