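import Cfsg.Agent.Lib.RankOne.FixedLine.Pairing
import Mathlib.LinearAlgebra.Basis.VectorSpace

/-!
# A non-abelian 2-group with a fixed field line has order `q³`
-/

set_option autoImplicit false
set_option linter.style.haveILetI false
set_option linter.unusedSectionVars false

namespace CfsgLib.RankOne.FixedLine

variable {Q K : Type*} [Group Q] [Finite Q] [Field K] [Finite K] [CharP K 2]

/-- Coordinates `D a F b e c` of a group of order `q³`. -/
structure Lines (d : Data Q K) where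
  D : K → Q
  F : K → Q
  cover : ∀ x, ∃ a b c, x = D a * F b * d.e c
  unique : ∀ a b, D a * F b ∈ d.line → a = 0 ∧ b = 0
  D_add : ∀ a b, ∃ c, D (a + b) = D a * D b * d.e c
  F_add : ∀ a b, ∃ c, F (a + b) = F a * F b * d.e c
  D_act : ∀ (s : Kˣ) a, ∃ c, d.σ s (D a) = D ((s : K) * a) * d.e c
  F_act : ∀ (s : Kˣ) a, ∃ c, d.σ s (F a) = F ((s : K) * a) * d.e c
  α_D : ∀ a, ∃ c, d.α (D a) = D a * d.e c
  α_F : ∀ a, ∃ c, d.α (F a) = F a * D a * d.e c
  comm_mem : ∀ x y, co x y ∈ d.line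
  sq_mem : ∀ x, x * x ∈ d.line

namespace Data

variable (d : Data Q K)

/-- If commutators lie in the line, one line modulo squares forces commutativity. -/
theorem commute_of_one_line (hQ : IsPGroup 2 Q) (hco : ∀ x y, co x y ∈ d.line) (P : K → Q)
    (hcov : ∀ x, ∃ a y c, x = P a * (y * y) * d.e c)
    (hadd : ∀ a b, ∃ y c, P (a + b) = P a * P b * (y * y * d.e c))
    (hact : ∀ (s : Kˣ) a, ∃ y c, d.σ s (P a) = P ((s : K) * a) * (y * y * d.e c)) (x y : Q) :
    Commute x y := by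
  have hsq : ∀ y z : Q, Commute (y * y) z := fun y z => by
    rw [← co_eq_one_iff]
    obtain ⟨a, ha⟩ := hco y z
    have hc : ∀ w, Commute (co y z) w := fun w => by rw [← ha]; exact d.central hQ a w
    rw [co_mul_left hc, ← ha, d.e_sq]
  have hr : ∀ (y : Q) (c : K), ∀ g, Commute (y * y * d.e c) g := fun y c g =>
    (hsq y g).mul_left (d.central hQ c g)
  have hP : ∀ a b, Commute (P a) (P b) := d.pairing_self hQ P (fun a b => hco _ _)
    (fun a b => by obtain ⟨y, c, h⟩ := hadd a b; exact ⟨_, hr y c, h⟩)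
    (fun s a => by obtain ⟨y, c, h⟩ := hact s a; exact ⟨_, hr y c, h⟩)
  obtain ⟨a, u, c, rfl⟩ := hcov x
  obtain ⟨b, v, c', rfl⟩ := hcov y
  rw [mul_assoc (P a), mul_assoc (P b)]
  exact ((hP a b).mul_right (hr v c' _).symm).mul_left (hr u c _)

end Data

/-- The abelian case: modulo squares one line, unless elementary. -/
theorem abelian_line {A : Type*} [CommGroup A] [Finite A] (d : Data A K) (hA : IsPGroup 2 A)
    (hne : ∃ x : A, x * x ≠ 1) :
    ∃ P : K → A, (∀ x, ∃ a y, x = P a * (y * y)) ∧ (∀ a b, ∃ y, P (a + b) = P a * P b * (y * y)) ∧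
      ∀ (s : Kˣ) a, ∃ y, d.σ s (P a) = P ((s : K) * a) * (y * y) := by
  classical
  haveI : Fact (Nat.Prime 2) := ⟨Nat.prime_two⟩
  set S := (powMonoidHom 2 : A →* A).range with hS
  have hmemS : ∀ x, x ∈ S ↔ ∃ y, y * y = x := fun x => by simp [hS, pow_two]
  have hSne : S ≠ ⊥ := fun h => by
    obtain ⟨x, hx⟩ := hne
    refine hx ?_
    have : x * x ∈ S := (hmemS _).2 ⟨x, rfl⟩
    rwa [h, Subgroup.mem_bot] at this
  have hSinv : ∀ (β : MulAut A), ∀ x ∈ S, β x ∈ S := fun β x hx => by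
    obtain ⟨y, rfl⟩ := (hmemS x).1 hx
    exact (hmemS _).2 ⟨β y, (map_mul β y y).symm⟩
  obtain ⟨z, hz, hz1, hz2⟩ := Data.exists_involution hA hSne
  obtain ⟨a₀, ha₀, ha₀S⟩ := d.exists_fixed_of_invol (hSinv d.α) hz hz1 hz2 (mul_comm _ _)
  have hCS : ∀ c, d.e c ∈ S := d.all_mem (fun s => hSinv (d.σ s)) ha₀ ha₀S
  -- the map `1 - α`
  let φ : A →* A :=
    MonoidHom.mk' (fun x => x * (d.α x)⁻¹) fun x y => by
      rw [map_mul, mul_inv, mul_mul_mul_comm]
  have hφS : ∀ x, φ x ∈ S := fun x => by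
    obtain ⟨c, hc⟩ := (d.fixed (x * d.α x)).1 (by rw [map_mul, d.invol, mul_comm])
    have e : φ x = x * x * (d.e c)⁻¹ := by
      show x * (d.α x)⁻¹ = _
      rw [hc, mul_inv_rev, mul_comm (d.α x)⁻¹, mul_assoc, mul_inv_cancel_left]
    rw [e]
    exact S.mul_mem ((hmemS _).2 ⟨x, rfl⟩) (S.inv_mem (hCS c))
  have hker : φ.ker = d.line := by
    ext x
    rw [MonoidHom.mem_ker, Data.mem_line, ← d.fixed]
    show x * (d.α x)⁻¹ = 1 ↔ _
    rw [mul_inv_eq_one, eq_comm]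
  have hcard : Nat.card φ.range * Nat.card K = Nat.card A := by
    rw [← Subgroup.card_mul_index φ.ker, hker, d.card_line, ← hker, Subgroup.index_ker, mul_comm]
  -- the last power map
  obtain ⟨N, hN⟩ := IsPGroup.iff_card.1 hA
  have hex : ∃ k, ∀ x : A, x ^ 2 ^ (k + 1) = 1 := ⟨N, fun x => by
    rw [pow_succ, pow_mul, ← hN, pow_card_eq_one', one_pow]⟩
  set k := Nat.find hex with hk
  have hk1 : ∀ x : A, x ^ 2 ^ (k + 1) = 1 := Nat.find_spec hex
  obtain ⟨j, hj⟩ : ∃ j, k = j + 1 := by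
    refine Nat.exists_eq_succ_of_ne_zero fun h => ?_
    obtain ⟨x, hx⟩ := hne
    exact hx (by have := hk1 x; rwa [h, zero_add, pow_one, pow_two] at this)
  obtain ⟨x₀, hx₀⟩ : ∃ x : A, x ^ 2 ^ k ≠ 1 := by
    have := Nat.find_min hex (show j < k by omega)
    rw [← hj] at this
    push Not at this
    exact this
  let h : A →* A := powMonoidHom (2 ^ k)
  have hfix : ∀ x, d.α (h x) = h x := fun x => by
    obtain ⟨y, hy⟩ := (hmemS _).1 (hφS x)
    have e : h (φ x) = 1 := by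
      rw [← hy]
      show (y * y) ^ 2 ^ k = 1
      rw [← pow_two, ← pow_mul, ← pow_succ', hk1]
    change h (x * (d.α x)⁻¹) = 1 at e
    rw [map_mul, map_inv, mul_inv_eq_one] at e
    have e2 : h (d.α x) = d.α (h x) := (map_pow d.α x _).symm
    rw [← e2, ← e]
  have hrange : h.range = d.line := by
    refine le_antisymm ?_ ?_
    · rintro _ ⟨x, rfl⟩; exact (d.fixed _).1 (hfix x)
    · obtain ⟨b, hb⟩ := (d.fixed _).1 (hfix x₀)
      rintro _ ⟨a, rfl⟩
      refine d.all_mem (S := h.range) (fun s y ⟨w, hw⟩ => ⟨d.σ s w, ?_⟩) (a := b)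
        (fun hb0 => hx₀ ?_) ⟨x₀, hb.symm⟩ a
      · rw [← hw]; exact (map_pow (d.σ s) w _).symm
      · rw [hb0, d.e_zero] at hb; exact hb.symm
  have hkerS : h.ker = S := by
    refine (Subgroup.eq_of_le_of_card_ge (fun x hx => ?_) ?_).symm
    · obtain ⟨y, rfl⟩ := (hmemS x).1 hx
      show (y * y) ^ 2 ^ k = 1
      rw [← pow_two, ← pow_mul, ← pow_succ', hk1]
    · have h1 := Subgroup.card_mul_index h.ker
      rw [Subgroup.index_ker, hrange, d.card_line, ← hcard] at h1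
      rw [Nat.eq_of_mul_eq_mul_right Nat.card_pos h1]
      exact Nat.card_le_card_of_injective (fun y => ⟨y.1, by
        obtain ⟨x, hx⟩ := y.2; rw [← hx]; exact hφS x⟩) fun y y' e => Subtype.ext (congrArg Subtype.val e :)
  have hsurj : ∀ a, ∃ x, h x = d.e a := fun a => (hrange.ge (d.e_mem a) : _)
  choose P hP using hsurj
  have key : ∀ x y, h x = h y → ∃ z, x = y * (z * z) := fun x y e => by
    obtain ⟨z, hz⟩ := (hmemS (y⁻¹ * x)).1 (hkerS.le (by
      rw [MonoidHom.mem_ker, map_mul, map_inv, e, inv_mul_cancel]))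
    exact ⟨z, by rw [hz, mul_inv_cancel_left]⟩
  refine ⟨P, fun x => ?_, fun a b => key _ _ (by rw [map_mul, hP, hP, hP, d.e_add]),
    fun s a => key _ _ ?_⟩
  · obtain ⟨a, ha⟩ := (d.fixed _).1 (hfix x)
    obtain ⟨z, hz⟩ := key x (P a) (by rw [hP, ha])
    exact ⟨a, z, hz⟩
  · rw [hP, ← d.act, ← hP a]
    exact (map_pow (d.σ s) _ _).symm

/-- The elementary quotient case. -/
theorem elementary_lines (d : Data Q K) (hQ : IsPGroup 2 Q) (hne : d.line ≠ ⊤) [d.line.Normal]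
    (hna : ∃ x y : Q, x * y ≠ y * x) (hel : ∀ z : Q ⧸ d.line, z * z = 1) :
    Nonempty (Lines d) := by
  classical
  set d₁ := d.quot hQ hne with hd₁
  letI : CommGroup (Q ⧸ d.line) :=
    { (inferInstance : Group (Q ⧸ d.line)) with
      mul_comm := fun a b => by
        have h : ∀ c : Q ⧸ d.line, c⁻¹ = c := fun c => inv_eq_of_mul_eq_one_right (hel c)
        calc a * b = (a * b)⁻¹ := (h _).symm
          _ = b * a := by rw [mul_inv_rev, h, h] }
  have hsq : ∀ x : Q, x * x ∈ d.line := fun x => by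
    rw [← QuotientGroup.eq_one_iff, QuotientGroup.mk_mul, hel]
  have hco : ∀ x y : Q, co x y ∈ d.line := fun x y => by
    rw [← QuotientGroup.eq_one_iff]
    simp [co, mul_comm]
  have hmk : ∀ x y : Q, (x : Q ⧸ d.line) = y → ∃ c, x = y * d.e c := fun x y h => by
    obtain ⟨c, hc⟩ := (QuotientGroup.eq).1 h.symm
    exact ⟨c, by rw [hc, mul_inv_cancel_left]⟩
  let D := d.rep hQ hne
  have hD : ∀ a, ((D a : Q) : Q ⧸ d.line) = d₁.e a := fun a => rfl
  let φ : Q ⧸ d.line →* Q ⧸ d.line :=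
    MonoidHom.mk' (fun x => x * d₁.α x) fun x y => by rw [map_mul, mul_mul_mul_comm]
  have hφ : ∀ x, ∃ a, d₁.e a = φ x := fun x => (d₁.fixed _).1 (by
    show d₁.α (x * d₁.α x) = _
    rw [map_mul, d₁.invol, mul_comm]; rfl)
  have hα : ∀ x a, d₁.e a = φ x → d₁.α x = x * d₁.e a := fun x a h => by
    rw [h]
    show _ = x * (x * d₁.α x)
    rw [← mul_assoc, hel, one_mul]
  by_cases hdeg : ∀ x, φ x = 1
  · exfalso
    obtain ⟨x, y, hxy⟩ := hna
    refine hxy (d.commute_of_one_line hQ hco D (fun g => ?_) (fun a b => ?_) (fun s a => ?_) x y).eq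
    · have hfix : d₁.α g = (g : Q ⧸ d.line) := by
        have := hα g 0 (by rw [hdeg, d₁.e_zero])
        rwa [d₁.e_zero, mul_one] at this
      obtain ⟨a, ha⟩ := (d₁.fixed _).1 hfix
      obtain ⟨c, hc⟩ := hmk g (D a) (by rw [hD, ha])
      exact ⟨a, 1, c, by rw [hc]; simp⟩
    · obtain ⟨c, hc⟩ := hmk (D (a + b)) (D a * D b) (by
        rw [QuotientGroup.mk_mul, hD, hD, hD, d₁.e_add])
      exact ⟨1, c, by rw [hc]; simp⟩
    · obtain ⟨c, hc⟩ := hmk (d.σ s (D a)) (D ((s : K) * a)) (by rw [hD, ← d₁.act]; rfl)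
      exact ⟨1, c, by rw [hc]; simp⟩
  push Not at hdeg
  obtain ⟨x₀, hx₀⟩ := hdeg
  have hφσ : ∀ s x, φ (d₁.σ s x) = d₁.σ s (φ x) := fun s x => by
    show _ * d₁.α _ = d₁.σ s (x * d₁.α x)
    rw [map_mul, d₁.comm]
  have hφs : ∀ a, ∃ x, φ x = d₁.e a := fun a => by
    obtain ⟨b, hb⟩ := hφ x₀
    refine d₁.all_mem (S := φ.range) (fun s y ⟨w, hw⟩ => ⟨d₁.σ s w, by rw [hφσ, hw]⟩)
      (a := b) (fun h => hx₀ (by rw [← hb, h, d₁.e_zero])) ⟨x₀, hb.symm⟩ a
  -- an equivariant section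
  letI : Module (ZMod 2) K := AddCommGroup.zmodModule fun z => by
    rw [two_nsmul, CharTwo.add_self_eq_zero]
  letI : Module (ZMod 2) (Additive (Q ⧸ d.line)) :=
    AddCommGroup.zmodModule fun (w : Additive (Q ⧸ d.line)) => by
      rw [two_nsmul]; exact hel (Additive.toMul w)
  choose ψ hψ using hφ
  let L₀ : Additive (Q ⧸ d.line) →+ K := AddMonoidHom.mk' (fun x => ψ (Additive.toMul x))
    fun x y => d₁.inj (by rw [d₁.e_add, hψ, hψ, hψ, toMul_add, map_mul])
  obtain ⟨s₀, hs₀⟩ := (L₀.toZModLinearMap 2).exists_rightInverse_of_surjective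
    (LinearMap.range_eq_top.2 fun a => by
      obtain ⟨x, hx⟩ := hφs a
      exact ⟨Additive.ofMul x, d₁.inj ((hψ _).trans hx)⟩)
  have hsec : ∀ a, φ (Additive.toMul (s₀ a)) = d₁.e a := fun a => by
    rw [← hψ]
    exact congrArg d₁.e (LinearMap.congr_fun hs₀ a)
  haveI : Fintype Kˣ := Fintype.ofFinite _
  let f₁ : K → Q ⧸ d.line := fun a =>
    ∏ s : Kˣ, d₁.σ s (Additive.toMul (s₀ (((s⁻¹ : Kˣ) : K) * a)))
  have hodd : Odd (Fintype.card Kˣ) := by
    rw [← Nat.card_eq_fintype_card, Nat.card_units]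
    letI : Fintype K := Fintype.ofFinite K
    obtain ⟨⟨m, hm⟩, -, hcard⟩ := FiniteField.card K 2
    rw [Nat.card_eq_fintype_card, hcard]
    exact Nat.Even.sub_odd (Nat.one_le_two_pow) (Nat.even_pow.2 ⟨even_two, Nat.pos_iff_ne_zero.1 hm⟩) odd_one
  have hf₁φ : ∀ a, φ (f₁ a) = d₁.e a := fun a => by
    have h1 : ∀ s : Kˣ, φ (d₁.σ s (Additive.toMul (s₀ (((s⁻¹ : Kˣ) : K) * a)))) = d₁.e a := fun s => by
      rw [hφσ, hsec, d₁.act, ← mul_assoc, ← Units.val_mul, mul_inv_cancel, Units.val_one, one_mul]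
    rw [map_prod, Finset.prod_congr rfl fun s _ => h1 s, Finset.prod_const, Finset.card_univ]
    obtain ⟨m, hm⟩ := hodd
    rw [hm, pow_succ, pow_mul, pow_two, hel, one_pow, one_mul]
  have hf₁add : ∀ a b, f₁ (a + b) = f₁ a * f₁ b := fun a b => by
    simp only [f₁]
    rw [← Finset.prod_mul_distrib]
    refine Finset.prod_congr rfl fun s _ => ?_
    rw [mul_add, map_add, toMul_add, map_mul]
  have hf₁act : ∀ (t : Kˣ) a, d₁.σ t (f₁ a) = f₁ ((t : K) * a) := fun t a => by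
    simp only [f₁]
    rw [map_prod]
    refine Fintype.prod_equiv (Equiv.mulLeft t) _ _ fun s => ?_
    simp only [Equiv.coe_mulLeft]
    have e : (((t * s)⁻¹ : Kˣ) : K) * ((t : K) * a) = ((s⁻¹ : Kˣ) : K) * a := by
      rw [← mul_assoc, mul_inv_rev, Units.val_mul, mul_assoc ((s⁻¹ : Kˣ) : K), ← Units.val_mul,
        inv_mul_cancel, Units.val_one, mul_one]
    rw [e, map_mul d₁.σ]
    rfl
  choose F hF using fun a => QuotientGroup.mk_surjective (f₁ a)
  refine ⟨⟨D, F, fun x => ?_, fun a b h => ?_, fun a b => ?_, fun a b => ?_, fun s a => ?_,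
    fun s a => ?_, fun a => ?_, fun a => ?_, hco, hsq⟩⟩
  · obtain ⟨b, hb⟩ : ∃ b, d₁.e b = φ x := ⟨_, hψ _⟩
    obtain ⟨a, ha⟩ : ∃ a, d₁.e a = (x : Q ⧸ d.line) * f₁ b := by
      refine (d₁.fixed _).1 ?_
      rw [map_mul, hα _ _ hb, hα _ _ (hf₁φ b).symm, mul_mul_mul_comm, hel, mul_one]
    obtain ⟨c, hc⟩ := hmk x (D a * F b) (by
      rw [QuotientGroup.mk_mul, hD, hF, ha, mul_assoc, hel, mul_one])
    exact ⟨a, b, c, hc⟩
  · rw [← QuotientGroup.eq_one_iff, QuotientGroup.mk_mul, hD, hF] at h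
    have h2 := congrArg φ h
    have he : φ (d₁.e a) = 1 := by
      show d₁.e a * d₁.α (d₁.e a) = 1
      rw [d₁.α_e, hel]
    rw [map_mul, he, one_mul, hf₁φ, map_one, ← d₁.e_zero] at h2
    obtain rfl := d₁.inj h2
    have h0 : f₁ 0 = 1 := by
      have := hf₁add 0 0
      rw [add_zero] at this
      exact mul_eq_left.mp this.symm
    rw [h0, mul_one, ← d₁.e_zero] at h
    exact ⟨d₁.inj h, rfl⟩
  · exact hmk _ _ (by rw [QuotientGroup.mk_mul, hD, hD, hD, d₁.e_add])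
  · exact hmk _ _ (by rw [QuotientGroup.mk_mul, hF, hF, hF, hf₁add])
  · exact hmk _ _ (by rw [hD, ← d₁.act]; rfl)
  · exact hmk _ _ (by rw [hF, ← hf₁act, ← hF a]; rfl)
  · exact ⟨_, d.α_rep hQ hne a⟩
  · refine hmk _ _ ?_
    rw [QuotientGroup.mk_mul, hD, hF, ← hα (f₁ a) a (hf₁φ a).symm, ← hF a]
    rfl

/-- A non-abelian quotient is impossible. -/
theorem false_of_quot (d : Data Q K) (hQ : IsPGroup 2 Q) (hne : d.line ≠ ⊤) [d.line.Normal]
    (ht : ∃ t : K, t ≠ 0 ∧ t ≠ 1) (L : Lines (d.quot hQ hne))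
    (hna : ∃ x y : Q ⧸ d.line, x * y ≠ y * x) : False := by
  classical
  set d₁ := d.quot hQ hne with hd₁
  have hQ₁ : IsPGroup 2 (Q ⧸ d.line) := hQ.to_quotient _
  have hmk : ∀ x y : Q, (x : Q ⧸ d.line) = y → ∃ c, x = y * d.e c := fun x y h => by
    obtain ⟨c, hc⟩ := (QuotientGroup.eq).1 h.symm
    exact ⟨c, by rw [hc, mul_inv_cancel_left]⟩
  let w := d.rep hQ hne
  have hw : ∀ a, ((w a : Q) : Q ⧸ d.line) = d₁.e a := fun a => rfl
  choose D hD using fun a => QuotientGroup.mk_surjective (L.D a)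
  choose F hF using fun a => QuotientGroup.mk_surjective (L.F a)
  have hcen : ∀ (c : K) (g : Q), Commute (d.e c) g := fun c g => d.central hQ c g
  have hmk2 : ∀ (x : Q) a, (x : Q ⧸ d.line) = d₁.e a → ∃ c, x = w a * d.e c := fun x a h =>
    hmk x (w a) h
  have hwx : ∀ c (x : Q), co (w c) x ∈ d.line := fun c x => by
    rw [← QuotientGroup.eq_one_iff]
    simp only [co, QuotientGroup.mk_mul, QuotientGroup.mk_inv, hw]
    rw [d₁.central hQ₁, mul_inv_cancel_right, mul_inv_cancel]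
  have hwadd : ∀ a b, ∃ r, (∀ g, Commute r g) ∧ w (a + b) = w a * w b * r := fun a b => by
    obtain ⟨c, hc⟩ := hmk (w (a + b)) (w a * w b) (by
      rw [QuotientGroup.mk_mul, hw, hw, hw, d₁.e_add])
    exact ⟨_, hcen c, hc⟩
  have hwσ : ∀ (s : Kˣ) a, ∃ r, (∀ g, Commute r g) ∧ d.σ s (w a) = w ((s : K) * a) * r := fun s a => by
    obtain ⟨c, hc⟩ := hmk2 (d.σ s (w a)) ((s : K) * a) (by rw [← d₁.act]; rfl)
    exact ⟨_, hcen c, hc⟩
  have hww : ∀ a b, Commute (w a) (w b) := d.pairing_self hQ w (fun a b => hwx a _) hwadd hwσ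
  have hW : ∀ a b c, Commute (w a) (w b * d.e c) := fun a b c => (hww a b).mul_right (hcen c _).symm
  -- `α` on the lifts
  have hαF : ∀ a, ∃ b c, d.α (F a) = F a * D a * (w b * d.e c) := fun a => by
    obtain ⟨b, hb⟩ := L.α_F a
    obtain ⟨c, hc⟩ := hmk (d.α (F a)) (F a * D a * w b) (by
      rw [QuotientGroup.mk_mul, QuotientGroup.mk_mul, hF, hD, hw, ← hb, ← hF a]; rfl)
    exact ⟨b, c, by rw [hc, mul_assoc]⟩
  have hαD : ∀ a, ∃ b c, d.α (D a) = D a * (w b * d.e c) := fun a => by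
    obtain ⟨b, hb⟩ := L.α_D a
    obtain ⟨c, hc⟩ := hmk (d.α (D a)) (D a * w b) (by
      rw [QuotientGroup.mk_mul, hD, hw, ← hb, ← hD a]; rfl)
    exact ⟨b, c, by rw [hc, mul_assoc]⟩
  have hwD : ∀ a b, Commute (w a) (D b) := fun a b => by
    obtain ⟨b', c, hb⟩ := hαF b
    obtain ⟨z, hz⟩ := hwx a (F b)
    obtain ⟨z', hz'⟩ := hwx a (D b)
    have h := congrArg d.α hz
    rw [d.α_e, map_co, d.α_rep, hb, co_mul_left_of_commute (hcen a _),
      co_mul_right_of_commute (hW a b' c), co_mul_right (by rw [← hz']; exact hcen z'), ← hz] at h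
    rw [← co_eq_one_iff]
    exact mul_eq_left.mp h.symm
  -- the bracket of `W` with `F`
  have hFadd : ∀ a b, ∃ r, (∀ c, Commute (w c) r) ∧ F (a + b) = F a * F b * r := fun a b => by
    obtain ⟨c, hc⟩ := L.F_add a b
    obtain ⟨c', hc'⟩ := hmk (F (a + b)) (F a * F b * w c) (by
      rw [QuotientGroup.mk_mul, QuotientGroup.mk_mul, hF, hF, hF, hw, hc])
    exact ⟨_, fun i => hW i c c', by rw [hc', mul_assoc]⟩
  have hFσ : ∀ (s : Kˣ) a, ∃ r, (∀ c, Commute (w c) r) ∧ d.σ s (F a) = F ((s : K) * a) * r :=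
    fun s a => by
      obtain ⟨c, hc⟩ := L.F_act s a
      obtain ⟨c', hc'⟩ := hmk (d.σ s (F a)) (F ((s : K) * a) * w c) (by
        rw [QuotientGroup.mk_mul, hF, hw, ← hc, ← hF a]; rfl)
      exact ⟨_, fun i => hW i c c', by rw [hc', mul_assoc]⟩
  obtain ⟨μ, hμ, hμsq⟩ := d.pairing hQ w F (fun a b => hwx a _) hwadd hFadd hwσ hFσ
  -- brackets in the quotient
  have hcen₁ : ∀ (c : K) (g : Q ⧸ d.line), Commute (d₁.e c) g := fun c g => d₁.central hQ₁ c g
  have padd : ∀ (P : K → Q ⧸ d.line), (∀ a b, ∃ c, P (a + b) = P a * P b * d₁.e c) → ∀ a b,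
      ∃ r, (∀ g, Commute r g) ∧ P (a + b) = P a * P b * r := fun P h a b => by
    obtain ⟨c, hc⟩ := h a b; exact ⟨_, hcen₁ c, hc⟩
  have pact : ∀ (P : K → Q ⧸ d.line), (∀ (s : Kˣ) a, ∃ c, d₁.σ s (P a) = P ((s : K) * a) * d₁.e c) →
      ∀ (s : Kˣ) a, ∃ r, (∀ g, Commute r g) ∧ d₁.σ s (P a) = P ((s : K) * a) * r := fun P h s a => by
    obtain ⟨c, hc⟩ := h s a; exact ⟨_, hcen₁ c, hc⟩
  have hDD : ∀ a b, Commute (L.D a) (L.D b) :=
    d₁.pairing_self hQ₁ L.D (fun a b => L.comm_mem _ _) (padd _ L.D_add) (pact _ L.D_act)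
  have hFF : ∀ a b, Commute (L.F a) (L.F b) :=
    d₁.pairing_self hQ₁ L.F (fun a b => L.comm_mem _ _) (padd _ L.F_add) (pact _ L.F_act)
  obtain ⟨β, hβ, hβsq⟩ := d₁.pairing hQ₁ L.D L.F (fun a b => L.comm_mem _ _) (padd _ L.D_add)
    (fun a b => (padd _ L.F_add a b).imp fun r h => ⟨fun c => (h.1 _).symm, h.2⟩) (pact _ L.D_act)
    (fun s a => (pact _ L.F_act s a).imp fun r h => ⟨fun c => (h.1 _).symm, h.2⟩)
  have hβne : β 1 1 ≠ 0 := by
    intro h0
    obtain ⟨x, y, hxy⟩ := hna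
    refine hxy ?_
    have hDF : ∀ a b, Commute (L.D a) (L.F b) := fun a b => by
      have h := hβsq a b
      rw [h0, zero_pow two_ne_zero, mul_zero, pow_eq_zero_iff two_ne_zero] at h
      rw [← co_eq_one_iff, hβ, h, d₁.e_zero]
    obtain ⟨a, b, c, rfl⟩ := L.cover x
    obtain ⟨a', b', c', rfl⟩ := L.cover y
    exact ((((hDD a a').mul_right (hDF a b')).mul_left ((hDF a' b).symm.mul_right (hFF b b'))).mul_right
      (hcen₁ c' _).symm).mul_left (hcen₁ c _)
  have hu : ∀ b, ∃ c, co (F b) (D 1) = w (β 1 b) * d.e c := fun b => hmk2 _ _ (by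
    have e : ((co (F b) (D 1) : Q) : Q ⧸ d.line) = co (L.F b) (L.D 1) := by simp [co, hF, hD]
    rw [e, ← co_inv, hβ, d₁.e_inv])
  -- the Jacobi identity
  have hjac : ∀ t, μ (β 1 t) 1 = μ (β 1 1) t := by
    intro t
    obtain ⟨c, hc⟩ := hu 1
    obtain ⟨c', hc'⟩ := hu t
    set u := co (F 1) (D 1) with hudef
    set v := co (F t) (D 1) with hvdef
    have hz : ∀ g, Commute (co (F 1) (F t)) g := by
      obtain ⟨z, hz⟩ : co (F 1) (F t) ∈ d.line := by
        rw [← QuotientGroup.eq_one_iff]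
        have e : ((co (F 1) (F t) : Q) : Q ⧸ d.line) = co (L.F 1) (L.F t) := by simp [co, hF]
        rw [e, co_eq_one_iff.2 (hFF 1 t)]
      intro g; rw [← hz]; exact hcen z g
    have huv : Commute u v := by
      rw [hc, hc']
      exact (hW _ _ _).mul_left (hcen c _)
    have hFv : ∀ g, Commute (co (F 1) v) g := fun g => by
      rw [hc', co_mul_right_of_commute (hcen c' _).symm, ← co_inv, hμ, d.e_inv]
      exact hcen _ g
    have hGu : ∀ g, Commute (co (F t) u) g := fun g => by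
      rw [hc, co_mul_right_of_commute (hcen c _).symm, ← co_inv, hμ, d.e_inv]
      exact hcen _ g
    have key : co (F 1) v = co (F t) u := by
      have e1 : F 1 * F t * D 1 * (F 1 * F t)⁻¹ = co (F 1) v * v * u * D 1 := by
        simp [hudef, hvdef, co, mul_assoc]
      have e2 : F t * F 1 * D 1 * (F t * F 1)⁻¹ = co (F t) u * u * v * D 1 := by
        simp [hudef, hvdef, co, mul_assoc]
      have e3 : F 1 * F t * D 1 * (F 1 * F t)⁻¹ = F t * F 1 * D 1 * (F t * F 1)⁻¹ := by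
        have e : F 1 * F t = co (F 1) (F t) * (F t * F 1) := by simp [co, mul_assoc]
        rw [e, mul_inv_rev]
        calc co (F 1) (F t) * (F t * F 1) * D 1 * ((F t * F 1)⁻¹ * (co (F 1) (F t))⁻¹)
            = co (F 1) (F t) * (F t * F 1 * D 1 * (F t * F 1)⁻¹) * (co (F 1) (F t))⁻¹ := by group
          _ = _ := by rw [(hz _).eq, mul_inv_cancel_right]
      rw [e1, e2, mul_assoc (co (F 1) v), mul_assoc (co (F t) u), huv.eq] at e3
      exact mul_right_cancel (mul_right_cancel e3)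
    rw [hc, hc', co_mul_right_of_commute (hcen c' _).symm, co_mul_right_of_commute (hcen c _).symm,
      ← co_inv, hμ, ← co_inv (w _), hμ, d.e_inv, d.e_inv] at key
    exact d.inj key
  have hμ0 : μ 1 1 = 0 := by
    obtain ⟨t, ht0, ht1⟩ := ht
    have h : (μ (β 1 t) 1 ^ 2) ^ 2 = (μ (β 1 1) t ^ 2) ^ 2 := by rw [hjac t]
    rw [hμsq (β 1 t) 1, hμsq (β 1 1) t] at h
    have e : ∀ x y z : K, (x * y * z) ^ 2 = x ^ 2 * y ^ 2 * z ^ 2 := fun x y z => by ring
    rw [e, e, hβsq 1 t] at h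
    have : t * (t - 1) * (β 1 1 ^ 2 * (μ 1 1 ^ 2) ^ 2) = 0 := by linear_combination -h
    simpa [sub_eq_zero, ht0, ht1, hβne] using this
  have hwF : ∀ a b, Commute (w a) (F b) := fun a b => by
    have h := hμsq a b
    rw [hμ0, zero_pow two_ne_zero, mul_zero, pow_eq_zero_iff two_ne_zero] at h
    rw [← co_eq_one_iff, hμ, h, d.e_zero]
  -- so `W` is central, and a fixed commutator appears
  have hwcen : ∀ a (x : Q), Commute (w a) x := fun a x => by
    obtain ⟨i, j, c, hx⟩ := L.cover (x : Q ⧸ d.line)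
    obtain ⟨c', hc'⟩ := hmk x (D i * F j * w c) (by
      rw [QuotientGroup.mk_mul, QuotientGroup.mk_mul, hD, hF, hw, hx])
    rw [hc']
    exact (((hwD a i).mul_right (hwF a j)).mul_right (hww a c)).mul_right (hcen c' _).symm
  obtain ⟨b₁, c₁, h₁⟩ := hαD 1
  obtain ⟨b₂, c₂, h₂⟩ := hαF 1
  have hfixz : d.α (co (D 1) (F 1)) = co (D 1) (F 1) := by
    have hr : ∀ b c g, Commute (w b * d.e c) g := fun b c g => (hwcen b g).mul_left (hcen c g)
    rw [map_co, h₁, h₂, co_mul_left_of_commute (hr _ _ _),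
      co_mul_right_of_commute (hr _ _ _).symm, co_mul_right_of_commute (Commute.refl _)]
  obtain ⟨z, hz⟩ := (d.fixed _).1 hfixz
  have e : ((co (D 1) (F 1) : Q) : Q ⧸ d.line) = d₁.e (β 1 1) := by
    rw [← hβ]; simp [co, hD, hF]
  rw [← hz, (QuotientGroup.eq_one_iff _).2 (d.e_mem z), ← d₁.e_zero] at e
  exact hβne (d₁.inj e).symm

universe u v in
theorem exists_lines_aux (n : ℕ) {K : Type v} [Field K] [Finite K] [CharP K 2]
    (ht : ∃ t : K, t ≠ 0 ∧ t ≠ 1) :
    ∀ (Q : Type u) [Group Q] [Finite Q], Nat.card Q = n → IsPGroup 2 Q → ∀ d : Data Q K,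
      (∃ x y : Q, x * y ≠ y * x) → Nonempty (Lines d) := by
  induction n using Nat.strong_induction_on with
  | _ n ih =>
    intro Q _ _ hn hQ d hna
    haveI := d.line_normal hQ
    have hne : d.line ≠ ⊤ := fun h => by
      obtain ⟨x, y, hxy⟩ := hna
      obtain ⟨a, rfl⟩ := h.ge (Subgroup.mem_top x)
      exact hxy (d.central hQ a y)
    have hQ₁ : IsPGroup 2 (Q ⧸ d.line) := hQ.to_quotient _
    by_cases hab : ∃ x y : Q ⧸ d.line, x * y ≠ y * x
    · have hlt : Nat.card (Q ⧸ d.line) < n := by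
        have h1 := Subgroup.card_eq_card_quotient_mul_card_subgroup d.line
        rw [d.card_line] at h1
        have h2 : 1 < Nat.card K := Finite.one_lt_card
        rw [← hn, h1]
        exact lt_mul_of_one_lt_right Nat.card_pos h2
      obtain ⟨L⟩ := ih _ hlt (Q ⧸ d.line) rfl hQ₁ (d.quot hQ hne) hab
      exact (false_of_quot d hQ hne ht L hab).elim
    push Not at hab
    by_cases hel : ∀ z : Q ⧸ d.line, z * z = 1
    · exact elementary_lines d hQ hne hna hel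
    exfalso
    push Not at hel
    obtain ⟨x, y, hxy⟩ := hna
    letI : CommGroup (Q ⧸ d.line) :=
      { (inferInstance : Group (Q ⧸ d.line)) with mul_comm := hab }
    obtain ⟨P, hcov, hadd, hact⟩ := abelian_line (d.quot hQ hne) hQ₁ hel
    choose P' hP' using fun a => QuotientGroup.mk_surjective (P a)
    have hmk : ∀ x y : Q, (x : Q ⧸ d.line) = y → ∃ c, x = y * d.e c := fun x y h => by
      obtain ⟨c, hc⟩ := (QuotientGroup.eq).1 h.symm
      exact ⟨c, by rw [hc, mul_inv_cancel_left]⟩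
    refine hxy (d.commute_of_one_line hQ (fun u v => ?_) P' (fun g => ?_) (fun a b => ?_)
      (fun s a => ?_) x y).eq
    · rw [← QuotientGroup.eq_one_iff]; simp [co, mul_comm]
    · obtain ⟨a, z, hz⟩ := hcov g
      obtain ⟨z, rfl⟩ := QuotientGroup.mk_surjective z
      obtain ⟨c, hc⟩ := hmk g (P' a * (z * z)) (by
        rw [QuotientGroup.mk_mul, QuotientGroup.mk_mul, hP', hz])
      exact ⟨a, z, c, hc⟩
    · obtain ⟨z, hz⟩ := hadd a b
      obtain ⟨z, rfl⟩ := QuotientGroup.mk_surjective z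
      obtain ⟨c, hc⟩ := hmk (P' (a + b)) (P' a * P' b * (z * z)) (by
        rw [QuotientGroup.mk_mul, QuotientGroup.mk_mul, QuotientGroup.mk_mul, hP', hP', hP', hz])
      exact ⟨z, c, by rw [hc]; group⟩
    · obtain ⟨z, hz⟩ := hact s a
      obtain ⟨z, rfl⟩ := QuotientGroup.mk_surjective z
      obtain ⟨c, hc⟩ := hmk (d.σ s (P' a)) (P' ((s : K) * a) * (z * z)) (by
        rw [QuotientGroup.mk_mul, QuotientGroup.mk_mul, hP', ← hz, ← hP' a]; rfl)
      exact ⟨z, c, by rw [hc]; group⟩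

theorem exists_lines (d : Data Q K) (hQ : IsPGroup 2 Q) (ht : ∃ t : K, t ≠ 0 ∧ t ≠ 1)
    (hna : ∃ x y : Q, x * y ≠ y * x) : Nonempty (Lines d) :=
  exists_lines_aux _ ht Q rfl hQ d hna

end CfsgLib.RankOne.FixedLine
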