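import Cfsg.Agent.Lib.RankOne.FixedLine.Data

/-!
# Commutators of two lines
-/

set_option autoImplicit false
set_option linter.style.haveILetI false
set_option linter.unusedSectionVars false

namespace CfsgLib.RankOne.FixedLine

section Co

variable {G : Type*} [Group G]

/-- The commutator `x y x⁻¹ y⁻¹`. -/
def co (x y : G) : G := x * y * x⁻¹ * y⁻¹

theorem co_eq_one_iff {x y : G} : co x y = 1 ↔ Commute x y := by
  rw [co, mul_inv_eq_one, mul_inv_eq_iff_eq_mul]
  rfl

theorem co_inv (x y : G) : (co x y)⁻¹ = co y x := by simp [co, mul_assoc]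

theorem co_self (x : G) : co x x = 1 := co_eq_one_iff.2 (Commute.refl x)

theorem co_mul_left {x x' y : G} (h : ∀ g, Commute (co x' y) g) :
    co (x * x') y = co x' y * co x y := by
  have : co (x * x') y = x * co x' y * (y * x⁻¹ * y⁻¹) := by simp [co, mul_assoc]
  rw [this, ← (h x).eq]
  simp [co, mul_assoc]

theorem co_mul_right {x y y' : G} (h : ∀ g, Commute (co x y') g) :
    co x (y * y') = co x y * co x y' := by
  have : co x (y * y') = co x y * (y * co x y' * y⁻¹) := by simp [co, mul_assoc]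
  rw [this, ← (h y).eq, mul_inv_cancel_right]

theorem co_mul_right_of_commute {x y r : G} (h : Commute x r) : co x (y * r) = co x y := by
  have : co x (y * r) = co x y * (y * co x r * y⁻¹) := by simp [co, mul_assoc]
  rw [this, co_eq_one_iff.2 h, mul_one, mul_inv_cancel, mul_one]

theorem co_mul_left_of_commute {x y r : G} (h : Commute r y) : co (x * r) y = co x y := by
  rw [← co_inv, co_mul_right_of_commute h.symm, co_inv]

theorem map_co (φ : MulAut G) (x y : G) : φ (co x y) = co (φ x) (φ y) := by simp [co]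

end Co

variable {Q K : Type*} [Group Q] [Finite Q] [Field K] [Finite K] [CharP K 2]

namespace Data

variable (d : Data Q K)

/-- The bracket of two lines, in coordinates, is `√(a b L)`. -/
theorem pairing (hQ : IsPGroup 2 Q) (P R : K → Q) (hb : ∀ a b, co (P a) (R b) ∈ d.line)
    (hPadd : ∀ a b, ∃ r, (∀ g, Commute r g) ∧ P (a + b) = P a * P b * r)
    (hRadd : ∀ a b, ∃ r, (∀ c, Commute (P c) r) ∧ R (a + b) = R a * R b * r)
    (hPσ : ∀ (s : Kˣ) a, ∃ r, (∀ g, Commute r g) ∧ d.σ s (P a) = P ((s : K) * a) * r)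
    (hRσ : ∀ (s : Kˣ) a, ∃ r, (∀ c, Commute (P c) r) ∧ d.σ s (R a) = R ((s : K) * a) * r) :
    ∃ g : K → K → K, (∀ a b, co (P a) (R b) = d.e (g a b)) ∧
      (∀ a b, g a b ^ 2 = a * b * g 1 1 ^ 2) := by
  choose g hg using hb
  refine ⟨g, fun a b => (hg a b).symm, biadd_sq g ?_ ?_ ?_⟩
  · intro x y z
    apply d.inj
    obtain ⟨r, hr, he⟩ := hPadd x y
    have hc : ∀ w, Commute (co (P y) (R z)) w := fun w => by rw [← hg]; exact d.central hQ _ w
    rw [d.e_add, hg, hg, hg, he, co_mul_left_of_commute (hr _), co_mul_left hc, (hc _).eq]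
  · intro x y z
    apply d.inj
    obtain ⟨r, hr, he⟩ := hRadd y z
    have hc : ∀ w, Commute (co (P x) (R z)) w := fun w => by rw [← hg]; exact d.central hQ _ w
    rw [d.e_add, hg, hg, hg, he, co_mul_right_of_commute (hr x), co_mul_right hc]
  · intro s x y hs
    apply d.inj
    obtain ⟨r, hr, he⟩ := hPσ (Units.mk0 s hs) x
    obtain ⟨r', hr', he'⟩ := hRσ (Units.mk0 s hs) y
    rw [Units.val_mk0] at he he'
    have h1 : co (P (s * x) * r) (R (s * y) * r') = co (P (s * x)) (R (s * y)) := by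
      rw [co_mul_left_of_commute (hr _), co_mul_right_of_commute (hr' _)]
    rw [hg, ← h1, ← he, ← he', ← map_co, ← hg, d.act, Units.val_mk0]

/-- A line commuting with itself. -/
theorem pairing_self (hQ : IsPGroup 2 Q) (P : K → Q) (hb : ∀ a b, co (P a) (P b) ∈ d.line)
    (hPadd : ∀ a b, ∃ r, (∀ g, Commute r g) ∧ P (a + b) = P a * P b * r)
    (hPσ : ∀ (s : Kˣ) a, ∃ r, (∀ g, Commute r g) ∧ d.σ s (P a) = P ((s : K) * a) * r) (a b : K) :
    Commute (P a) (P b) := by
  obtain ⟨g, hg, hsq⟩ := d.pairing hQ P P hb hPadd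
    (fun a b => (hPadd a b).imp fun r h => ⟨fun c => (h.1 (P c)).symm, h.2⟩) hPσ
    (fun s a => (hPσ s a).imp fun r h => ⟨fun c => (h.1 (P c)).symm, h.2⟩)
  have h11 : g 1 1 = 0 := d.inj (by rw [← hg, co_self, d.e_zero])
  have h := hsq a b
  rw [h11, zero_pow two_ne_zero, mul_zero, pow_eq_zero_iff two_ne_zero] at h
  rw [← co_eq_one_iff, hg, h, d.e_zero]

end Data

end CfsgLib.RankOne.FixedLine
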